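import Mathlib
import Cfsg.Prelude.Def_GeometricClasses
import Cfsg.Agent.H886.Basic

/-!
A criterion for non-maximality of stabilisers of orthogonal decompositions, and the frame cases.
-/

set_option autoImplicit false
set_option linter.unusedSectionVars false

namespace Cfsg.Agent.H886

open Matrix Cfsg.Geo QuadraticMap
open scoped MatrixGroups

variable {ι : Type} [Fintype ι] [DecidableEq ι] {F : Type*} [Field F]

theorem not_mem_of_polar (Q : (ι → F) → F) {t : ℕ} {k : ℕ}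
    {D : Fin t → Submodule F (ι → F)} (hD : IsOrthogonalMDecomposition Q k D)
    (x y y' : ι → F) {j j' : Fin t} (hjj' : j ≠ j') (hy : y ∈ D j) (hy' : y' ∈ D j')
    (h : polar Q x y ≠ 0) (h' : polar Q x y' ≠ 0) (l : Fin t) : x ∉ D l := by
  intro hx
  have h1 : l = j := by
    by_contra hne
    exact h (hD.decomp.orthogonal l j hne x hx y hy)
  have h2 : l = j' := by
    by_contra hne
    exact h' (hD.decomp.orthogonal l j' hne x hx y' hy')
  exact hjj' (h1.symm.trans h2)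

theorem mem_decompositionStabilizer_apply {t : ℕ} {D : Fin t → Submodule F (ι → F)}
    {g : GL ι F} (hg : g ∈ decompositionStabilizer D) :
    ∃ σ : Equiv.Perm (Fin t), ∀ i, ∀ x ∈ D i, (g : Matrix ι ι F) *ᵥ x ∈ D (σ i) := by
  obtain ⟨σ, hσ⟩ := hg
  refine ⟨σ, fun i x hx => ?_⟩
  rw [← hσ i]
  exact ⟨x, hx, by simp⟩

theorem between_of_stabilizing [Finite F] (Q : (ι → F) → F) {t k : ℕ}
    (D : Fin t → Submodule F (ι → F)) (hD : IsOrthogonalMDecomposition Q k D) (S : Set (ι → F))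
    (h1 : ∀ g : GL ι F, g ∈ decompositionStabilizer D → g ∈ omegaGL Q →
      ∀ v ∈ S, (g : Matrix ι ι F) *ᵥ v ∈ S)
    (g1 : GL ι F) (hg1 : g1 ∈ omegaGL Q) (hg1S : ∀ v ∈ S, (g1 : Matrix ι ι F) *ᵥ v ∈ S)
    {i j j' : Fin t} (v y y' : ι → F) (hjj' : j ≠ j') (hv : v ∈ D i) (hy : y ∈ D j)
    (hy' : y' ∈ D j') (h : polar Q ((g1 : Matrix ι ι F) *ᵥ v) y ≠ 0)
    (h' : polar Q ((g1 : Matrix ι ι F) *ᵥ v) y' ≠ 0)
    (g2 : GL ι F) (hg2 : g2 ∈ omegaGL Q) (s : ι → F) (hs : s ∈ S)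
    (hg2S : (g2 : Matrix ι ι F) *ᵥ s ∉ S) :
    ∃ K : Subgroup (GL ι F), decompositionStabilizer D ⊓ omegaGL Q < K ∧ K < omegaGL Q := by
  refine ⟨Cfsg.stabilizing (Cfsg.glToMat ι F) S ⊓ omegaGL Q, ?_, ?_⟩
  · refine lt_of_le_of_ne ?_ ?_
    · intro g hg
      exact ⟨mem_stabilizing_of_forward S g (h1 g hg.1 hg.2), hg.2⟩
    · intro heq
      have hmem : g1 ∈ Cfsg.stabilizing (Cfsg.glToMat ι F) S ⊓ omegaGL Q :=
        ⟨mem_stabilizing_of_forward S g1 hg1S, hg1⟩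
      rw [← heq] at hmem
      obtain ⟨σ, hσ⟩ := mem_decompositionStabilizer_apply hmem.1
      exact not_mem_of_polar Q hD _ y y' hjj' hy hy' h h' (σ i) (hσ i v hv)
  · refine lt_of_le_of_ne inf_le_right ?_
    intro heq
    have hmem : g2 ∈ omegaGL Q := hg2
    rw [← heq] at hmem
    exact hg2S ((hmem.1 s).1 hs)

/-- The frame case: the `Q = c` vectors in the members form an orthogonal frame up to sign. -/
theorem frame_case [Finite F] (Q : (ι → F) → F) (hQ : IsNondegenerateQuadraticForm Q)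
    (h2 : (2 : F) ≠ 0) {t k : ℕ}
    (D : Fin t → Submodule F (ι → F)) (hD : IsOrthogonalMDecomposition Q k D) (ht : 5 ≤ t)
    (hk : 2 ≤ k) (c : F) (hc : c ≠ 0) (v : Fin t → Fin k → (ι → F)) (hv : ∀ i a, v i a ∈ D i)
    (hvc : ∀ i a, Q (v i a) = c) (horth : ∀ i a b, a ≠ b → polar Q (v i a) (v i b) = 0)
    (hchar : ∀ i, ∀ x ∈ D i, Q x = c → ∃ a, x = v i a ∨ x = - v i a) :
    ∃ K : Subgroup (GL ι F), decompositionStabilizer D ⊓ omegaGL Q < K ∧ K < omegaGL Q := by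
  have hval : ∀ i a j b, polar Q (v i a) (v j b) = if i = j ∧ a = b then 2 * c else 0 := by
    intro i a j b
    by_cases hij : i = j
    · subst hij
      by_cases hab : a = b
      · subst hab
        simp [pl_self Q hQ, hvc]
      · simp [hab, horth i a b hab]
    · simp [hij, hD.decomp.orthogonal i j hij _ (hv i a) _ (hv j b)]
  set S : Set (ι → F) := {x | ∃ i, x ∈ D i ∧ Q x = c} with hS
  have hSmem : ∀ x, x ∈ S ↔ ∃ i a, x = v i a ∨ x = - v i a := by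
    intro x
    constructor
    · rintro ⟨i, hx, hxc⟩
      exact ⟨i, hchar i x hx hxc⟩
    · rintro ⟨i, a, rfl | rfl⟩
      · exact ⟨i, hv i a, hvc i a⟩
      · exact ⟨i, (D i).neg_mem (hv i a), by rw [q_neg Q hQ, hvc]⟩
  -- swapping two frame vectors
  have h2c : (2 : F) * c ≠ 0 := mul_ne_zero h2 hc
  have hQd : ∀ i a j b, ¬ (i = j ∧ a = b) → Q (v i a - v j b) = 2 * c := by
    intro i a j b hne
    rw [q_sub Q hQ, hvc, hvc, hval, if_neg hne]; ring
  have hswap : ∀ i a j b, ¬ (i = j ∧ a = b) → ∀ l d, rf Q (v i a - v j b) (v l d) =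
      if l = i ∧ d = a then v j b else if l = j ∧ d = b then v i a else v l d := by
    intro i a j b hne l d
    rw [rf_def, hQd i a j b hne, pl_sub_left Q hQ, hval, hval]
    by_cases h1 : l = i ∧ d = a
    · obtain ⟨rfl, rfl⟩ := h1
      have : ¬ (j = l ∧ b = d) := fun h => hne ⟨h.1.symm, h.2.symm⟩
      simp only [and_self, if_true, if_neg this, sub_zero, inv_mul_cancel₀ h2c, one_smul]
      abel
    · have h1' : ¬ (i = l ∧ a = d) := fun h => h1 ⟨h.1.symm, h.2.symm⟩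
      rw [if_neg h1, if_neg h1']
      by_cases h3 : l = j ∧ d = b
      · obtain ⟨rfl, rfl⟩ := h3
        simp only [and_self, if_true, zero_sub, mul_neg, inv_mul_cancel₀ h2c, neg_smul, one_smul]
        abel
      · have h3' : ¬ (j = l ∧ b = d) := fun h => h3 ⟨h.1.symm, h.2.symm⟩
        rw [if_neg h3, if_neg h3']
        simp
  have hrfneg : ∀ u x, rf Q u (-x) = - rf Q u x := by
    intro u x
    rw [rf_def, rf_def, pl_neg_right Q hQ, mul_neg, neg_smul, neg_sub]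
    abel
  have hswapS : ∀ i a j b, ¬ (i = j ∧ a = b) → ∀ x ∈ S, rf Q (v i a - v j b) x ∈ S := by
    intro i a j b hne x hx
    rw [hSmem] at hx ⊢
    have key : ∀ l d, ∃ l' d', rf Q (v i a - v j b) (v l d) = v l' d' := by
      intro l d
      rw [hswap i a j b hne]
      split_ifs
      · exact ⟨_, _, rfl⟩
      · exact ⟨_, _, rfl⟩
      · exact ⟨_, _, rfl⟩
    obtain ⟨l, d, rfl | rfl⟩ := hx
    · obtain ⟨l', d', h⟩ := key l d
      exact ⟨l', d', Or.inl h⟩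
    · obtain ⟨l', d', h⟩ := key l d
      exact ⟨l', d', Or.inr (by rw [hrfneg, h])⟩
  -- indices
  obtain ⟨i0, i1, i2, i3, i4, h01, h02, h03, h04, h12, h13, h14, h23, h24, h34⟩ :
      ∃ i0 i1 i2 i3 i4 : Fin t, i0 ≠ i1 ∧ i0 ≠ i2 ∧ i0 ≠ i3 ∧ i0 ≠ i4 ∧ i1 ≠ i2 ∧ i1 ≠ i3 ∧
        i1 ≠ i4 ∧ i2 ≠ i3 ∧ i2 ≠ i4 ∧ i3 ≠ i4 := by
    refine ⟨⟨0, by omega⟩, ⟨1, by omega⟩, ⟨2, by omega⟩, ⟨3, by omega⟩, ⟨4, by omega⟩, ?_⟩
    simp [Fin.ext_iff]
  obtain ⟨a0, a1, ha⟩ : ∃ a0 a1 : Fin k, a0 ≠ a1 :=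
    ⟨⟨0, by omega⟩, ⟨1, by omega⟩, by simp [Fin.ext_iff]⟩
  have n01 : ¬ (i0 = i1 ∧ a0 = a0) := fun h => h01 h.1
  have n02 : ¬ (i0 = i2 ∧ a0 = a0) := fun h => h02 h.1
  have n12 : ¬ (i1 = i2 ∧ a0 = a0) := fun h => h12 h.1
  have n04 : ¬ (i0 = i4 ∧ a0 = a0) := fun h => h04 h.1
  obtain ⟨g1, hg1, hg1a⟩ := exists_refl_comm Q hQ (v i0 a0 - v i1 a0) (v i1 a0 - v i2 a0)
    (by rw [hQd _ _ _ _ n01]; exact h2c) (by rw [hQd _ _ _ _ n12]; exact h2c)
  have hrfsub : ∀ u x y, rf Q u (x - y) = rf Q u x - rf Q u y := by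
    intro u x y
    rw [rf_def, rf_def, rf_def, pl_sub_right Q hQ, mul_sub, sub_smul]
    abel
  have hrfadd : ∀ u x y, rf Q u (x + y) = rf Q u x + rf Q u y := by
    intro u x y
    rw [rf_def, rf_def, rf_def, pl_add_right Q hQ, mul_add, add_smul]
    abel
  have e1 : rf Q (v i1 a0 - v i2 a0) (v i0 a0 - v i1 a0) = v i0 a0 - v i2 a0 := by
    rw [hrfsub, hswap _ _ _ _ n12, hswap _ _ _ _ n12]
    simp [h01, h02]
  rw [e1] at hg1a
  set x : ι → F := v i0 a0 + v i1 a0 + v i2 a0 + v i3 a0 with hx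
  have hQx : Q x = 4 * c := by
    rw [hx, q_add Q hQ, q_add Q hQ, q_add Q hQ]
    simp only [pl_add_left Q hQ, hval, hvc]
    simp [h01, h02, h03, h12, h13, h23]
    ring
  have h4c : (4 : F) * c ≠ 0 := by
    have : (4 : F) = 2 * 2 := by norm_num
    rw [this]
    exact mul_ne_zero (mul_ne_zero h2 h2) hc
  obtain ⟨g2, hg2, hg2a⟩ := exists_refl_comm Q hQ x (v i0 a0 - v i4 a0)
    (by rw [hQx]; exact h4c) (by rw [hQd _ _ _ _ n04]; exact h2c)
  have e2 : rf Q (v i0 a0 - v i4 a0) x = v i4 a0 + v i1 a0 + v i2 a0 + v i3 a0 := by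
    rw [hx, hrfadd, hrfadd, hrfadd, hswap _ _ _ _ n04, hswap _ _ _ _ n04, hswap _ _ _ _ n04,
      hswap _ _ _ _ n04]
    simp [h01.symm, h02.symm, h03.symm, h14, h24, h34]
  rw [e2] at hg2a
  have e3 : rf Q (v i4 a0 + v i1 a0 + v i2 a0 + v i3 a0) (v i0 a0) = v i0 a0 := by
    rw [rf_def]
    simp only [pl_add_left Q hQ, hval]
    simp [h01.symm, h02.symm, h03.symm, h04.symm]
  have e4 : (g2 : Matrix ι ι F) *ᵥ (v i0 a0) = v i0 a0 - (2 : F)⁻¹ • x := by
    rw [hg2a, e3, rf_def, hQx]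
    congr 2
    rw [hx]
    simp only [pl_add_left Q hQ, hval]
    simp [h01.symm, h02.symm, h03.symm]
    have : (4 : F) = 2 * 2 := by norm_num
    rw [this]
    field_simp
  refine between_of_stabilizing Q D hD S ?_ g1 hg1 ?_ (i := i0) (j := i2) (j' := i0)
    (v i0 a0 + v i0 a1) (v i2 a0) (v i0 a1) h02.symm ((D i0).add_mem (hv _ _) (hv _ _)) (hv _ _)
    (hv _ _) ?_ ?_ g2 hg2 (v i0 a0) ?_ ?_
  · intro g hg hgΩ w hw
    obtain ⟨i, hwi, hwc⟩ := hw
    obtain ⟨σ, hσ⟩ := mem_decompositionStabilizer_apply hg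
    exact ⟨σ i, hσ i w hwi, by rw [omega_isometry Q hQ g hgΩ, hwc]⟩
  · intro w hw
    rw [hg1a]
    exact hswapS _ _ _ _ n01 _ (hswapS _ _ _ _ n02 _ hw)
  · rw [hg1a, hrfadd, hswap _ _ _ _ n02, hswap _ _ _ _ n02, hrfadd]
    simp only [and_self, if_true, h02, ha.symm, and_false, false_and, if_false]
    rw [hswap _ _ _ _ n01, hswap _ _ _ _ n01, pl_add_left Q hQ]
    simp [h02.symm, h12.symm, ha.symm, h01, hval, h2, hc]
  · rw [hg1a, hrfadd, hswap _ _ _ _ n02, hswap _ _ _ _ n02, hrfadd]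
    simp only [and_self, if_true, h02, ha.symm, and_false, false_and, if_false]
    rw [hswap _ _ _ _ n01, hswap _ _ _ _ n01, pl_add_left Q hQ]
    simp [h02.symm, h12.symm, ha.symm, h01, hval, h2, hc]
  · exact ⟨i0, hv _ _, hvc _ _⟩
  · rw [e4]
    rintro ⟨l, hl, -⟩
    refine not_mem_of_polar Q hD _ (v i0 a0) (v i1 a0) h01 (hv _ _) (hv _ _) ?_ ?_ l hl
    · rw [pl_sub_left Q hQ, pl_smul_left Q hQ, hx]
      simp only [pl_add_left Q hQ, hval]
      simp only [h01.symm, h02.symm, h03.symm, and_self, if_true, false_and, if_false, add_zero]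
      rw [inv_mul_cancel_left₀ h2]
      intro h
      apply hc
      linear_combination h
    · rw [pl_sub_left Q hQ, pl_smul_left Q hQ, hx]
      simp only [pl_add_left Q hQ, hval]
      simp only [h01, h12.symm, h13.symm, and_self, if_true, false_and, if_false, add_zero,
        zero_add, zero_sub]
      rw [inv_mul_cancel_left₀ h2]
      exact neg_ne_zero.2 hc

end Cfsg.Agent.H886
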