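import Mathlib
import Cfsg.Prelude.Def_GeometricClasses
import Cfsg.Agent.H886.Cases

/-!
Non-maximality of stabilisers of orthogonal decompositions: types `O_2^+(4)` and `O_4^+(2)`.
-/

set_option autoImplicit false
set_option linter.unusedSectionVars false
set_option linter.unusedSimpArgs false

namespace Cfsg.Agent.H886

open Matrix Cfsg.Geo QuadraticMap
open scoped MatrixGroups

variable {ι : Type} [Fintype ι] [DecidableEq ι] {F : Type*} [Field F]

/-- Type `O_2^+(4)`. -/
theorem four_case [Finite F] (Q : (ι → F) → F) (hQ : IsNondegenerateQuadraticForm Q)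
    (h2 : (2 : F) = 0) (h4 : ∀ x : F, x ^ 4 = x) (ω : F) (hω : ω ^ 2 = ω + 1) {t k : ℕ}
    (D : Fin t → Submodule F (ι → F)) (hD : IsOrthogonalMDecomposition Q k D) (ht : 5 ≤ t)
    (e f : Fin t → (ι → F)) (he : ∀ i, e i ∈ D i) (hf : ∀ i, f i ∈ D i)
    (hQe : ∀ i, Q (e i) = 0) (hQf : ∀ i, Q (f i) = 0) (hef : ∀ i, polar Q (e i) (f i) = 1)
    (hspan : ∀ i, ∀ x ∈ D i, ∃ p q : F, x = p • e i + q • f i) :
    ∃ K : Subgroup (GL ι F), decompositionStabilizer D ⊓ omegaGL Q < K ∧ K < omegaGL Q := by
  have hn1 : (-1 : F) = 1 := by linear_combination - h2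
  have hee : ∀ i j, polar Q (e i) (e j) = 0 := by
    intro i j
    by_cases hij : i = j
    · subst hij
      simp [pl_self Q hQ, hQe]
    · simp [hD.decomp.orthogonal i j hij _ (he i) _ (he j)]
  have hff : ∀ i j, polar Q (f i) (f j) = 0 := by
    intro i j
    by_cases hij : i = j
    · subst hij
      simp [pl_self Q hQ, hQf]
    · simp [hD.decomp.orthogonal i j hij _ (hf i) _ (hf j)]
  have hef' : ∀ i j, polar Q (e i) (f j) = if i = j then 1 else 0 := by
    intro i j
    by_cases hij : i = j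
    · subst hij
      simp [hef i]
    · simp [hij, hD.decomp.orthogonal i j hij _ (he i) _ (hf j)]
  have hfe' : ∀ i j, polar Q (f i) (e j) = if i = j then 1 else 0 := by
    intro i j
    rw [polar_comm, hef']
    simp [eq_comm]
  have hQpq : ∀ i (p q : F), Q (p • e i + q • f i) = p * q := by
    intro i p q
    rw [q_add Q hQ, hQ.smul, hQ.smul, hQe, hQf, pl_smul_left Q hQ, pl_smul_right Q hQ, hef]
    ring
  set S : Set (ι → F) := {x | ∃ i, x ∈ D i ∧ Q x = 1} with hS
  set W : AddSubgroup (ι → F) := AddSubgroup.closure S with hW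
  have hidem : ∀ c : F, c * c = c → c = 0 ∨ c = 1 := by
    intro c hc
    have : c * (c - 1) = 0 := by linear_combination hc
    rcases mul_eq_zero.1 this with h | h
    · exact Or.inl h
    · exact Or.inr (by linear_combination h)
  -- the polar form is idempotent-valued on `W`
  have hSS : ∀ x ∈ S, ∀ y ∈ S, polar Q x y * polar Q x y = polar Q x y := by
    rintro x ⟨i, hx, hx1⟩ y ⟨j, hy, hy1⟩
    by_cases hij : i = j
    · subst hij
      obtain ⟨p, q, rfl⟩ := hspan i x hx
      obtain ⟨r, s, rfl⟩ := hspan i y hy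
      rw [hQpq] at hx1 hy1
      have hp : p ≠ 0 := left_ne_zero_of_mul_eq_one hx1
      have hr : r ≠ 0 := left_ne_zero_of_mul_eq_one hy1
      have hp3 : p ^ 3 = 1 := by
        have := h4 p
        have h' : p * (p ^ 3 - 1) = 0 := by linear_combination this
        rcases mul_eq_zero.1 h' with h | h
        · exact absurd h hp
        · linear_combination h
      have hr3 : r ^ 3 = 1 := by
        have := h4 r
        have h' : r * (r ^ 3 - 1) = 0 := by linear_combination this
        rcases mul_eq_zero.1 h' with h | h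
        · exact absurd h hr
        · linear_combination h
      have hq : q = p ^ 2 := by
        have : p * (q - p ^ 2) = 0 := by linear_combination hx1 - hp3
        rcases mul_eq_zero.1 this with h | h
        · exact absurd h hp
        · linear_combination h
      have hs : s = r ^ 2 := by
        have : r * (s - r ^ 2) = 0 := by linear_combination hy1 - hr3
        rcases mul_eq_zero.1 this with h | h
        · exact absurd h hr
        · linear_combination h
      subst hq hs
      have : polar Q (p • e i + p ^ 2 • f i) (r • e i + r ^ 2 • f i) = p * r ^ 2 + p ^ 2 * r := by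
        simp only [pl_add_left Q hQ, pl_add_right Q hQ, pl_smul_left Q hQ, pl_smul_right Q hQ,
          hee, hff, hef', hfe']
        simp
      rw [this]
      linear_combination (p ^ 2 * r) * hr3 + (p * r ^ 2) * hp3 + (p ^ 3 * r ^ 3) * h2
    · rw [hD.decomp.orthogonal i j hij x hx y hy]; ring
  have hSW : ∀ x ∈ S, ∀ y ∈ W, polar Q x y * polar Q x y = polar Q x y := by
    intro x hx y hy
    refine AddSubgroup.closure_induction (p := fun y _ => polar Q x y * polar Q x y = polar Q x y)
      ?_ ?_ ?_ ?_ hy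
    · intro y hy; exact hSS x hx y hy
    · rw [pl_zero_right Q hQ]; ring
    · intro y z _ _ h1 h2'
      rw [pl_add_right Q hQ]
      linear_combination h1 + h2' + (polar Q x y * polar Q x z) * h2
    · intro y _ h1
      rw [pl_neg_right Q hQ]
      linear_combination h1 + polar Q x y * h2
  have hWW : ∀ x ∈ W, ∀ y ∈ W, polar Q x y * polar Q x y = polar Q x y := by
    intro x hx y hy
    refine AddSubgroup.closure_induction (p := fun x _ => polar Q x y * polar Q x y = polar Q x y)
      ?_ ?_ ?_ ?_ hx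
    · intro x hx; exact hSW x hx y hy
    · rw [pl_zero_left Q hQ]; ring
    · intro z z' _ _ h1 h2'
      rw [pl_add_left Q hQ]
      linear_combination h1 + h2' + (polar Q z y * polar Q z' y) * h2
    · intro z _ h1
      rw [pl_neg_left Q hQ]
      linear_combination h1 + polar Q z y * h2
  have hrfW : ∀ u ∈ W, Q u = 1 → ∀ x ∈ W, rf Q u x ∈ W := by
    intro u hu hu1 x hx
    rw [rf_def, hu1, inv_one, one_mul]
    rcases hidem _ (hWW u hu x hx) with h | h
    · rw [h, zero_smul, sub_zero]; exact hx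
    · rw [h, one_smul]; exact W.sub_mem hx hu
  obtain ⟨i0, i1, i2, i3, i4, h01, h02, h03, h04, h12, h13, h14, h23, h24, h34⟩ :=
    exists_five ht
  -- `a i = e i + f i`, `b i = ω e i + ω² f i`
  have hω3 : ω * ω ^ 2 = 1 := by
    linear_combination (ω + 1) * hω + ω * h2
  have haS : ∀ i, e i + f i ∈ S := fun i => ⟨i, (D i).add_mem (he i) (hf i), by
    have := hQpq i 1 1
    simpa using this⟩
  have hbS : ∀ i, ω • e i + ω ^ 2 • f i ∈ S := fun i =>
    ⟨i, (D i).add_mem ((D i).smul_mem _ (he i)) ((D i).smul_mem _ (hf i)), by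
      rw [hQpq, hω3]⟩
  have hSleW : ∀ x ∈ S, x ∈ W := fun x hx => AddSubgroup.subset_closure hx
  have hQa : ∀ i, Q (e i + f i) = 1 := fun i => (haS i).choose_spec.2
  have hQb : ∀ i, Q (ω • e i + ω ^ 2 • f i) = 1 := fun i => (hbS i).choose_spec.2
  set a : Fin t → (ι → F) := fun i => e i + f i with ha
  set b : Fin t → (ι → F) := fun i => ω • e i + ω ^ 2 • f i with hb
  have haD : ∀ i, a i ∈ D i := fun i => (D i).add_mem (he i) (hf i)
  have hbD : ∀ i, b i ∈ D i := fun i =>
    (D i).add_mem ((D i).smul_mem _ (he i)) ((D i).smul_mem _ (hf i))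
  have haa : ∀ i j, polar Q (a i) (a j) = 0 := by
    intro i j
    simp only [ha, pl_add_left Q hQ, pl_add_right Q hQ, hee, hff, hef', hfe']
    by_cases hij : i = j
    · simp only [hij, if_true]; linear_combination h2
    · simp [hij]
  have hbb : ∀ i j, polar Q (b i) (b j) = 0 := by
    intro i j
    by_cases hij : i = j
    · subst hij
      rw [pl_self Q hQ, h2, zero_mul]
    · exact hD.decomp.orthogonal i j hij _ (hbD i) _ (hbD j)
  have hab : ∀ i j, polar Q (a i) (b j) = if i = j then 1 else 0 := by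
    intro i j
    simp only [ha, hb, pl_add_left Q hQ, pl_add_right Q hQ, pl_smul_right Q hQ, hee, hff, hef',
      hfe']
    by_cases hij : i = j
    · simp only [hij, if_true]; linear_combination hω + ω * h2
    · simp [hij]
  have hba : ∀ i j, polar Q (b i) (a j) = if i = j then 1 else 0 := by
    intro i j
    rw [polar_comm, hab]
    simp [eq_comm]
  have hae : ∀ i j, polar Q (a i) (e j) = if i = j then 1 else 0 := by
    intro i j
    simp only [ha, pl_add_left Q hQ, hee, hfe']
    simp
  have hea : ∀ i j, polar Q (e i) (a j) = if i = j then 1 else 0 := by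
    intro i j
    rw [polar_comm, hae]
    simp [eq_comm]
  have heb : ∀ i j, polar Q (e i) (b j) = if i = j then ω ^ 2 else 0 := by
    intro i j
    simp only [hb, pl_add_right Q hQ, pl_smul_right Q hQ, hee, hef']
    simp
  have hbe : ∀ i j, polar Q (b i) (e j) = if i = j then ω ^ 2 else 0 := by
    intro i j
    rw [polar_comm, heb]
    simp [eq_comm]
  have hQv1 : Q (b i0 + a i1 + a i2) = 1 := by
    rw [q_add Q hQ, q_add Q hQ, hQa, hQa, hQb]
    simp only [pl_add_left Q hQ, haa, hba]
    simp only [h01, h02, if_false]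
    linear_combination h2
  have hQv2 : Q (b i0 + e i1) = 1 := by
    rw [q_add Q hQ, hQb, hQe, hbe]
    simp [h01]
  obtain ⟨g1, hg1, hg1a⟩ := exists_refl_comm Q hQ (a i0) (b i0 + a i1 + a i2)
    (by rw [hQa]; exact one_ne_zero) (by rw [hQv1]; exact one_ne_zero)
  obtain ⟨g2, hg2, hg2a⟩ := exists_refl_comm Q hQ (a i0) (b i0 + e i1)
    (by rw [hQa]; exact one_ne_zero) (by rw [hQv2]; exact one_ne_zero)
  have e1 : rf Q (b i0 + a i1 + a i2) (a i0) = a i0 - (b i0 + a i1 + a i2) := by
    rw [rf_def, hQv1]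
    simp only [pl_add_left Q hQ, haa, hba]
    simp
  have e2 : rf Q (b i0 + e i1) (a i0) = a i0 - (b i0 + e i1) := by
    rw [rf_def, hQv2]
    simp only [pl_add_left Q hQ, hba, hea]
    simp [h01.symm]
  have hQu1 : Q (a i0 - (b i0 + a i1 + a i2)) = 1 := by
    rw [← e1, rf_isometry Q hQ _ (by rw [hQv1]; exact one_ne_zero), hQa]
  have hQu2 : Q (a i0 - (b i0 + e i1)) = 1 := by
    rw [← e2, rf_isometry Q hQ _ (by rw [hQv2]; exact one_ne_zero), hQa]
  rw [e1] at hg1a
  rw [e2] at hg2a
  refine between_of_stabilizing Q D hD (W : Set (ι → F)) ?_ g1 hg1 ?_ (i := i1) (j := i0)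
    (j' := i2) (b i1) (a i0) (b i2) h02 (hbD _) (haD _) (hbD _) ?_ ?_ g2 hg2 (a i1)
    (hSleW _ (haS _)) ?_
  · intro g hg hgΩ
    obtain ⟨σ, hσ⟩ := mem_decompositionStabilizer_apply hg
    refine map_mem_closure S g ?_
    rintro x ⟨i, hx, hx1⟩
    exact hSleW _ ⟨σ i, hσ i x hx, by rw [omega_isometry Q hQ g hgΩ, hx1]⟩
  · intro x hx
    rw [hg1a]
    refine hrfW _ (hSleW _ (haS _)) (hQa _) _ (hrfW _ ?_ hQu1 _ hx)
    exact W.sub_mem (hSleW _ (haS _)) (W.add_mem (W.add_mem (hSleW _ (hbS _)) (hSleW _ (haS _)))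
      (hSleW _ (haS _)))
  · rw [hg1a]
    simp only [rf_def, hQa, hQu1, pl_add_left Q hQ, pl_sub_left Q hQ, pl_add_right Q hQ,
      pl_sub_right Q hQ, pl_smul_left Q hQ, pl_smul_right Q hQ, haa, hab, hba, hbb]
    simp only [h01, h02, h12, h01.symm, h02.symm, h12.symm, if_true, if_false]
    intro h
    ring_nf at h
    norm_num at h
  · rw [hg1a]
    simp only [rf_def, hQa, hQu1, pl_add_left Q hQ, pl_sub_left Q hQ, pl_add_right Q hQ,
      pl_sub_right Q hQ, pl_smul_left Q hQ, pl_smul_right Q hQ, haa, hab, hba, hbb]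
    simp only [h01, h02, h12, h01.symm, h02.symm, h12.symm, if_true, if_false]
    intro h
    ring_nf at h
    norm_num at h
  · intro hmem
    have hval := hWW _ hmem _ (hSleW _ (hbS i1))
    rw [hg2a] at hval
    have hbb' : polar Q ((fun i => ω • e i + ω ^ 2 • f i) i1) (b i1) = 0 := hbb i1 i1
    change polar Q (rf Q (a i0) (rf Q (a i0 - (b i0 + e i1)) (a i1))) (b i1) *
      polar Q (rf Q (a i0) (rf Q (a i0 - (b i0 + e i1)) (a i1))) (b i1) =
      polar Q (rf Q (a i0) (rf Q (a i0 - (b i0 + e i1)) (a i1))) (b i1) at hval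
    have hcalc : polar Q (rf Q (a i0) (rf Q (a i0 - (b i0 + e i1)) (a i1))) (b i1) =
        1 - ω ^ 2 := by
      simp only [rf_def, hQa, hQu2, pl_add_left Q hQ, pl_sub_left Q hQ, pl_add_right Q hQ,
        pl_sub_right Q hQ, pl_smul_left Q hQ, pl_smul_right Q hQ, haa, hab, hba, hbb, hae, hea,
        heb, hbe, hee]
      simp only [h01, h01.symm, if_true, if_false]
      ring
    rw [hcalc] at hval
    -- `(1 - ω²)² = 1 - ω²` forces `ω² = 0` or `ω² = 1`
    have h5 : ω ^ 2 * (ω ^ 2 - 1) = 0 := by linear_combination hval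
    have hω0 : ω ≠ 0 := by
      intro h
      rw [h] at hω
      norm_num at hω
    rcases mul_eq_zero.1 h5 with h | h
    · exact hω0 (pow_eq_zero_iff (two_ne_zero) |>.1 h)
    · exact hω0 (by linear_combination h - hω)

/-- Type `O_4^+(2)`. -/
theorem four_two_case [Finite F] (Q : (ι → F) → F) (hQ : IsNondegenerateQuadraticForm Q)
    (h2 : ∀ x : F, x = 0 ∨ x = 1) (hn : 5 ≤ Fintype.card ι) {t k : ℕ}
    (D : Fin t → Submodule F (ι → F)) (hD : IsOrthogonalMDecomposition Q k D) (ht : 4 ≤ t)
    (a b a' b' : Fin t → (ι → F)) (ha : ∀ i, a i ∈ D i) (hb : ∀ i, b i ∈ D i)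
    (ha' : ∀ i, a' i ∈ D i) (hb' : ∀ i, b' i ∈ D i)
    (hQa : ∀ i, Q (a i) = 1) (hQb : ∀ i, Q (b i) = 1) (hQa' : ∀ i, Q (a' i) = 1)
    (hQb' : ∀ i, Q (b' i) = 1)
    (hab : ∀ i, polar Q (a i) (b i) = 1) (hab' : ∀ i, polar Q (a' i) (b' i) = 1)
    (haa' : ∀ i, polar Q (a i) (a' i) = 0) (hapb' : ∀ i, polar Q (a i) (b' i) = 0)
    (hba' : ∀ i, polar Q (b i) (a' i) = 0) (hbb' : ∀ i, polar Q (b i) (b' i) = 0)
    (hspan : ∀ i, ∀ x ∈ D i, ∃ p q r s : F, x = p • a i + q • b i + r • a' i + s • b' i) :
    ∃ K : Subgroup (GL ι F), decompositionStabilizer D ⊓ omegaGL Q < K ∧ K < omegaGL Q := by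
  have h20 : (2 : F) = 0 := by
    rcases h2 (1 + 1) with h | h
    · linear_combination h
    · exact absurd (by linear_combination h : (1 : F) = 0) one_ne_zero
  have hn1 : (-1 : F) = 1 := by linear_combination - h20
  have same : ∀ (x : Fin t → (ι → F)), (∀ i, x i ∈ D i) → ∀ i j, polar Q (x i) (x j) = 0 := by
    intro x hx i j
    by_cases hij : i = j
    · subst hij; rw [pl_self Q hQ, h20, zero_mul]
    · exact hD.decomp.orthogonal i j hij _ (hx i) _ (hx j)
  have mix : ∀ (x y : Fin t → (ι → F)) (c : F), (∀ i, x i ∈ D i) → (∀ i, y i ∈ D i) →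
      (∀ i, polar Q (x i) (y i) = c) → ∀ i j, polar Q (x i) (y j) = if i = j then c else 0 := by
    intro x y c hx hy hxy i j
    by_cases hij : i = j
    · subst hij; simp [hxy]
    · simp [hij, hD.decomp.orthogonal i j hij _ (hx i) _ (hy j)]
  have Paa := same a ha
  have Pbb := same b hb
  have Pa'a' := same a' ha'
  have Pb'b' := same b' hb'
  have Pab := mix a b 1 ha hb hab
  have Pba := mix b a 1 hb ha (fun i => by rw [polar_comm]; exact hab i)
  have Pa'b' := mix a' b' 1 ha' hb' hab'
  have Pb'a' := mix b' a' 1 hb' ha' (fun i => by rw [polar_comm]; exact hab' i)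
  have Paa' : ∀ i j, polar Q (a i) (a' j) = 0 := fun i j => by
    rw [mix a a' 0 ha ha' haa']; simp
  have Pa'a : ∀ i j, polar Q (a' i) (a j) = 0 := fun i j => by rw [polar_comm]; exact Paa' j i
  have Pab' : ∀ i j, polar Q (a i) (b' j) = 0 := fun i j => by
    rw [mix a b' 0 ha hb' hapb']; simp
  have Pb'a : ∀ i j, polar Q (b' i) (a j) = 0 := fun i j => by rw [polar_comm]; exact Pab' j i
  have Pba' : ∀ i j, polar Q (b i) (a' j) = 0 := fun i j => by
    rw [mix b a' 0 hb ha' hba']; simp
  have Pa'b : ∀ i j, polar Q (a' i) (b j) = 0 := fun i j => by rw [polar_comm]; exact Pba' j i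
  have Pbb' : ∀ i j, polar Q (b i) (b' j) = 0 := fun i j => by
    rw [mix b b' 0 hb hb' hbb']; simp
  have Pb'b : ∀ i j, polar Q (b' i) (b j) = 0 := fun i j => by rw [polar_comm]; exact Pbb' j i
  obtain ⟨i0, i1, i2, i3, h01, h02, h03, h12, h13, h23⟩ := exists_four ht
  -- description of the nonsingular vectors in a member
  set S : Set (ι → F) := {x | ∃ i, x ∈ D i ∧ Q x = 1} with hS
  have hchar : ∀ i, ∀ x ∈ D i, Q x = 1 → x = a i ∨ x = b i ∨ x = a i + b i ∨ x = a' i ∨
      x = b' i ∨ x = a' i + b' i := by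
    intro i x hx hx1
    obtain ⟨p, q, r, s, rfl⟩ := hspan i x hx
    rw [q_add Q hQ, q_add Q hQ, q_add Q hQ, hQ.smul, hQ.smul, hQ.smul, hQ.smul, hQa, hQb, hQa',
      hQb'] at hx1
    simp only [pl_add_left Q hQ, pl_smul_left Q hQ, pl_smul_right Q hQ, Paa', Pba', Pa'b', Pab',
      Pab, Pbb'] at hx1
    rcases h2 p with rfl | rfl <;> rcases h2 q with rfl | rfl <;> rcases h2 r with rfl | rfl <;>
      rcases h2 s with rfl | rfl <;> simp at hx1 ⊢
    all_goals first
      | (exfalso; apply one_ne_zero (α := F); linear_combination hx1 - h20; done)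
      | (exfalso; apply one_ne_zero (α := F); linear_combination hx1 - 2 * h20)
  have hSmem : ∀ i, a i ∈ S ∧ b i ∈ S ∧ a i + b i ∈ S ∧ a' i ∈ S ∧ b' i ∈ S ∧ a' i + b' i ∈ S := by
    intro i
    refine ⟨⟨i, ha i, hQa i⟩, ⟨i, hb i, hQb i⟩, ⟨i, (D i).add_mem (ha i) (hb i), ?_⟩,
      ⟨i, ha' i, hQa' i⟩, ⟨i, hb' i, hQb' i⟩, ⟨i, (D i).add_mem (ha' i) (hb' i), ?_⟩⟩
    · rw [q_add Q hQ, hQa, hQb, hab]; linear_combination h20
    · rw [q_add Q hQ, hQa', hQb', hab']; linear_combination h20
  -- the swap of two planes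
  obtain ⟨g1, hg1, hg1a⟩ := Cfsg.Agent.H889.exists_siegel_omegaGL Q hQ hn (a i0 + a i1)
    (b i0 + b i1)
    (by rw [q_add Q hQ, hQa, hQa, Paa]; linear_combination h20)
    (by rw [q_add Q hQ, hQb, hQb, Pbb]; linear_combination h20)
    (by
      simp only [pl_add_left Q hQ, pl_add_right Q hQ, Pab, h01, h01.symm, if_true, if_false]
      linear_combination h20)
  have g1a' : ∀ i, (g1 : Matrix ι ι F) *ᵥ (a' i) = a' i := by
    intro i
    rw [hg1a]
    simp only [pl_add_left Q hQ, Paa', Pba']
    simp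
  have g1b' : ∀ i, (g1 : Matrix ι ι F) *ᵥ (b' i) = b' i := by
    intro i
    rw [hg1a]
    simp only [pl_add_left Q hQ, Pab', Pbb']
    simp
  have hcharneg : ∀ x : ι → F, -x = x := by
    intro x
    rw [← neg_one_smul F x, hn1, one_smul]
  have hchartwo : ∀ x : ι → F, x + x = 0 := by
    intro x
    rw [← two_smul F x, h20, zero_smul]
  have g1a : ∀ i, (g1 : Matrix ι ι F) *ᵥ (a i) = if i = i0 then a i1 else if i = i1 then a i0
      else a i := by
    intro i
    rw [hg1a]
    simp only [pl_add_left Q hQ, Paa, Pba]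
    by_cases h0 : i = i0
    · subst h0
      simp only [h01.symm, if_true, if_false, add_zero, zero_smul, zero_sub, one_smul]
      rw [hcharneg, ← add_assoc, hchartwo, zero_add]
    · by_cases h1 : i = i1
      · subst h1
        simp only [h0, Ne.symm h0, if_true, if_false, add_zero, zero_add, zero_smul, zero_sub,
          one_smul, h01]
        rw [hcharneg, add_comm (a i0), ← add_assoc, hchartwo, zero_add]
      · simp only [h0, h1, Ne.symm h0, Ne.symm h1, if_false, add_zero, zero_smul, sub_zero]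
  have g1b : ∀ i, (g1 : Matrix ι ι F) *ᵥ (b i) = if i = i0 then b i1 else if i = i1 then b i0
      else b i := by
    intro i
    rw [hg1a]
    simp only [pl_add_left Q hQ, Pab, Pbb]
    by_cases h0 : i = i0
    · subst h0
      simp only [h01.symm, if_true, if_false, add_zero, zero_smul, sub_zero, one_smul]
      rw [← add_assoc, hchartwo, zero_add]
    · by_cases h1 : i = i1
      · subst h1
        simp only [h0, Ne.symm h0, if_true, if_false, add_zero, zero_add, zero_smul, sub_zero,
          one_smul, h01]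
        rw [add_comm (b i0), ← add_assoc, hchartwo, zero_add]
      · simp only [h0, h1, Ne.symm h0, Ne.symm h1, if_false, add_zero, zero_smul, sub_zero]
  -- an element of `Ω` not preserving `S`
  have hQu : Q (a i0 + a i1 + a i2) = 1 := by
    rw [q_add Q hQ, q_add Q hQ, hQa, hQa, hQa]
    simp only [pl_add_left Q hQ, Paa]
    linear_combination h20
  obtain ⟨g2, hg2, hg2a⟩ := exists_refl_comm Q hQ (a i0 + a i1 + a i2) (b i0)
    (by rw [hQu]; exact one_ne_zero) (by rw [hQb]; exact one_ne_zero)
  have e2 : rf Q (b i0) (a i0 + a i1 + a i2) = (a i0 + a i1 + a i2) - b i0 := by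
    rw [rf_def, hQb]
    simp only [pl_add_right Q hQ, Pba]
    simp [h01, h02]
  have hQu' : Q ((a i0 + a i1 + a i2) - b i0) = 1 := by
    rw [← e2, rf_isometry Q hQ _ (by rw [hQb]; exact one_ne_zero), hQu]
  rw [e2] at hg2a
  refine between_of_stabilizing Q D hD S ?_ g1 hg1 ?_ (i := i0) (j := i1) (j' := i0)
    (a i0 + a' i0) (b i1) (b' i0) h01.symm ((D i0).add_mem (ha _) (ha' _)) (hb _) (hb' _) ?_ ?_
    g2 hg2 (b i1) (hSmem i1).2.1 ?_
  · rintro g hg hgΩ x ⟨i, hx, hx1⟩
    obtain ⟨σ, hσ⟩ := mem_decompositionStabilizer_apply hg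
    exact ⟨σ i, hσ i x hx, by rw [omega_isometry Q hQ g hgΩ, hx1]⟩
  · rintro x ⟨i, hx, hx1⟩
    rcases hchar i x hx hx1 with rfl | rfl | rfl | rfl | rfl | rfl
    · rw [g1a]; split_ifs
      · exact (hSmem _).1
      · exact (hSmem _).1
      · exact (hSmem _).1
    · rw [g1b]; split_ifs
      · exact (hSmem _).2.1
      · exact (hSmem _).2.1
      · exact (hSmem _).2.1
    · rw [Matrix.mulVec_add, g1a, g1b]; split_ifs
      · exact (hSmem _).2.2.1
      · exact (hSmem _).2.2.1
      · exact (hSmem _).2.2.1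
    · rw [g1a']; exact (hSmem _).2.2.2.1
    · rw [g1b']; exact (hSmem _).2.2.2.2.1
    · rw [Matrix.mulVec_add, g1a', g1b']; exact (hSmem _).2.2.2.2.2
  · rw [Matrix.mulVec_add, g1a, g1a', if_pos rfl, pl_add_left Q hQ, Pab, Pa'b, if_pos rfl,
      add_zero]
    exact one_ne_zero
  · rw [Matrix.mulVec_add, g1a, g1a', if_pos rfl, pl_add_left Q hQ, Pab', Pa'b', if_pos rfl,
      zero_add]
    exact one_ne_zero
  · rintro ⟨l, hl, -⟩
    refine not_mem_of_polar Q hD _ (b i2) (b i0) h02.symm (hb _) (hb _) ?_ ?_ l hl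
    · rw [hg2a]
      simp only [rf_def, hQu, hQu', pl_add_left Q hQ, pl_sub_left Q hQ, pl_add_right Q hQ,
        pl_sub_right Q hQ, pl_smul_left Q hQ, pl_smul_right Q hQ, Paa, Pab, Pba, Pbb]
      simp only [h01, h02, h12, h01.symm, h02.symm, h12.symm, if_true, if_false]
      intro h
      ring_nf at h
      first
        | exact one_ne_zero (α := F) (by linear_combination h - h20)
        | exact one_ne_zero (α := F) (by linear_combination h)
        | exact one_ne_zero (α := F) (by linear_combination -h)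
        | exact one_ne_zero (α := F) (by linear_combination -h - h20)
        | exact one_ne_zero (α := F) (by linear_combination -h + h20)
        | exact one_ne_zero (α := F) (by linear_combination h + h20)
    · rw [hg2a]
      simp only [rf_def, hQu, hQu', pl_add_left Q hQ, pl_sub_left Q hQ, pl_add_right Q hQ,
        pl_sub_right Q hQ, pl_smul_left Q hQ, pl_smul_right Q hQ, Paa, Pab, Pba, Pbb]
      simp only [h01, h02, h12, h01.symm, h02.symm, h12.symm, if_true, if_false]
      intro h
      ring_nf at h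
      first
        | exact one_ne_zero (α := F) (by linear_combination h - h20)
        | exact one_ne_zero (α := F) (by linear_combination h)
        | exact one_ne_zero (α := F) (by linear_combination -h)
        | exact one_ne_zero (α := F) (by linear_combination -h - h20)
        | exact one_ne_zero (α := F) (by linear_combination -h + h20)
        | exact one_ne_zero (α := F) (by linear_combination h + h20)

end Cfsg.Agent.H886
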