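import Cfsg.Agent.H886.HypPl

/-!
Non-rigid overgroups of the stabiliser of an orthogonal decomposition into hyperbolic planes contain `E Q`
(at least six members, `|F| ≥ 7`).
-/

set_option autoImplicit false
set_option linter.unusedSectionVars false
set_option linter.unusedVariables false

namespace Cfsg.Agent.H886.HypNonRigid

open QuadraticMap Cfsg.Agent.LieClassical.OrthCore Cfsg.Agent.LieClassical.OrthTrans
  Cfsg.Agent.LieClassical.OrthFinite Cfsg.Agent.LieClassical.OrthSimple Cfsg.Agent.H883.Bridge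
  Cfsg.Agent.H883.Root Cfsg.Agent.H883.Sub Cfsg.Agent.H886.Decomp Cfsg.Agent.H886.Rigid
  Cfsg.Agent.H886.PlaneRigid Cfsg.Agent.H886.DecTools Cfsg.Agent.H886.HypPl
open Cfsg.Agent.H886.PlaneNonRigid (Linked linked_move linked_refl has_of_move exists_notMem_finset
  refl_mul_refl_factor refl_pair_apply hasGroup has_other)

variable {F V : Type*} [Field F] [AddCommGroup V] [Module F V] {Q : QuadraticForm F V} {t : ℕ}
  {D : Fin t → Submodule F V} {p : Fin t → V →ₗ[F] V} {M : Subgroup (V ≃ₗ[F] V)}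

/-- Coordinates in a plane. -/
theorem exists_coords {W : Submodule F V} (hW : Module.finrank F W = 2) {a b : V} (ha : a ∈ W)
    (hb : b ∈ W) (ha0 : a ≠ 0) (hab : ∀ c : F, b ≠ c • a) {z : V} (hz : z ∈ W) :
    ∃ l m : F, z = l • a + m • b := by
  have hfd : FiniteDimensional F W := Module.finite_of_finrank_pos (by rw [hW]; omega)
  have hli : LinearIndependent F ![(⟨a, ha⟩ : W), (⟨b, hb⟩ : W)] := by
    rw [LinearIndependent.pair_iff' (fun h => ha0 (congrArg Subtype.val h))]
    intro c hc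
    exact hab c (congrArg Subtype.val hc).symm
  have hspan := hli.span_eq_top_of_card_eq_finrank (by rw [hW]; rfl)
  have hz' : (⟨z, hz⟩ : W) ∈ Submodule.span F (Set.range ![(⟨a, ha⟩ : W), (⟨b, hb⟩ : W)]) := by
    rw [hspan]; exact Submodule.mem_top
  rw [Matrix.range_cons, Matrix.range_cons, Matrix.range_empty, Set.union_empty,
    Set.singleton_union, Submodule.mem_span_pair] at hz'
  obtain ⟨l, m, hlm⟩ := hz'
  exact ⟨l, m, (congrArg Subtype.val hlm).symm⟩

/-- Reflections in vectors of `D i` fix the other members pointwise. -/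
theorem refl_fix (h : Dec Q D p) {i m : Fin t} (hm : m ≠ i) {a : V} (ha : a ∈ D i) (hQa : Q a ≠ 0)
    {z : V} (hz : z ∈ D m) : refl Q a hQa z = z := by
  rw [refl_apply, h.orth i m (Ne.symm hm) a ha z hz, mul_zero, zero_smul, sub_zero]

/-- The product of the reflections in two independent vectors of a plane fixes no nonzero vector of the
plane. -/
theorem eq_zero_of_fix {W : Submodule F V} (hW : Module.finrank F W = 2) (hnd : NondegOn Q W)
    {a b : V} (ha : a ∈ W) (hb : b ∈ W) (hQa : Q a ≠ 0) (hQb : Q b ≠ 0)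
    (hab : ∀ c : F, b ≠ c • a) {z : V} (hz : z ∈ W) (h : refl Q a hQa (refl Q b hQb z) = z) :
    z = 0 := by
  have ha0 : a ≠ 0 := by
    rintro rfl
    exact hQa (QuadraticMap.map_zero Q)
  have h1 : refl Q b hQb z = refl Q a hQa z := by
    have := congrArg (refl Q a hQa) h
    have e : ∀ x, refl Q a hQa (refl Q a hQa x) = x := fun x =>
      LinearEquiv.congr_fun (refl_mul_self hQa) x
    rwa [e] at this
  rw [refl_apply, refl_apply] at h1
  have h2 : ((Q b)⁻¹ * polar Q b z) • b = ((Q a)⁻¹ * polar Q a z) • a := sub_right_injective h1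
  have hbz : polar Q b z = 0 := by
    by_contra hne
    have hc : (Q b)⁻¹ * polar Q b z ≠ 0 := mul_ne_zero (inv_ne_zero hQb) hne
    apply hab (((Q b)⁻¹ * polar Q b z)⁻¹ * ((Q a)⁻¹ * polar Q a z))
    rw [mul_smul, ← h2, smul_smul, inv_mul_cancel₀ hc, one_smul]
  rw [hbz, mul_zero, zero_smul] at h2
  have haz : polar Q a z = 0 := by
    have := (smul_eq_zero.1 h2.symm).resolve_right ha0
    exact (mul_eq_zero.1 this).resolve_left (inv_ne_zero hQa)
  refine hnd z hz fun y hy => ?_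
  obtain ⟨l, m, rfl⟩ := exists_coords hW ha hb ha0 hab hy
  rw [polar_comm, polar_add_left, polar_smul_left, polar_smul_left, haz, hbz]
  simp

section Planes

variable [Finite F] [FiniteDimensional F V]

/-- Two independent vectors of norm `1`, neither orthogonal. -/
theorem HB.exists_pair (hq : 7 ≤ Nat.card F) {W : Submodule F V} {e f : V} (h : HB Q W e f) :
    ∃ a ∈ W, ∃ b ∈ W, Q a ≠ 0 ∧ Q b = Q a ∧ polar Q a b ≠ 0 ∧ ∀ c : F, b ≠ c • a := by
  have hQ : Q (e + (1 : F) • f) ≠ 0 := by rw [h.exists_value]; exact one_ne_zero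
  have hm : e + (1 : F) • f ∈ W := W.add_mem h.he (W.smul_mem _ h.hf)
  obtain ⟨y, hy, hQy, h1, h2⟩ := h.exists_other hq hm hQ
  exact ⟨_, hm, y, hy, hQ, hQy, h1, h2⟩

theorem rep (hD : ∀ i, ∃ e f, HB Q (D i) e f) : ∀ m : Fin t, ∀ v : F, v ≠ 0 → ∃ y ∈ D m, Q y = v := by
  intro m v _
  obtain ⟨e, f, h⟩ := hD m
  exact ⟨e + v • f, (D m).add_mem h.he ((D m).smul_mem _ h.hf), h.exists_value v⟩

/-- One Siegel transformation at `s` with nonzero component in `D j` gives all those with second vector in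
`D j`, if `s` has no component in two members `D j` and `D l`. -/
theorem has_member (hq : 7 ≤ Nat.card F) (hG : Good Q) (h : Dec Q D p)
    (hD : ∀ i, ∃ e f, HB Q (D i) e f)
    (hMO : M ≤ O Q) (hH : stabFamily D ⊓ E Q ≤ M) {s w₀ : V} {j l : Fin t} (hjl : j ≠ l)
    (hsj : p j s = 0) (hsl : p l s = 0) (hw : Has Q M s w₀) (hwj : p j w₀ ≠ 0) {w : V}
    (hwD : w ∈ D j) : Has Q M s w := by
  obtain ⟨e, f, hef⟩ := hD j
  obtain ⟨a, ha, a', ha', hQa, hQa', haa, hind⟩ := HB.exists_pair hq hef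
  have hQa0' : Q a' ≠ 0 := by rw [hQa']; exact hQa
  have fixs : ∀ c (hc : c ∈ D j) (hQc : Q c ≠ 0), refl Q c hQc s = s := by
    intro c hc hQc
    rw [refl_apply, h.polar_right j s hc, hsj, polar_zero_right, mul_zero, zero_smul, sub_zero]
  have fixs' : ∀ c (hc : c ∈ D l) (hQc : Q c ≠ 0), refl Q c hQc s = s := by
    intro c hc hQc
    rw [refl_apply, h.polar_right l s hc, hsl, polar_zero_right, mul_zero, zero_smul, sub_zero]
  have h1 := hw.map (g := refl Q a hQa * refl Q a' hQa0')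
    ((O Q).mul_mem (refl_mem_O _) (refl_mem_O _))
    (hH (h.refl_mul_refl_mem hG ha ha' hQa hQa0' hQa'.symm))
  have e1 : (refl Q a hQa * refl Q a' hQa0') s = s := by
    show refl Q a hQa (refl Q a' hQa0' s) = s
    rw [fixs a' ha', fixs a ha]
  rw [e1] at h1
  have h2 := hw.sub h1
  set z := w₀ - (refl Q a hQa * refl Q a' hQa0') w₀ with hz
  have hcomp : ∀ m, p m ((refl Q a hQa * refl Q a' hQa0') w₀) =
      if m = j then refl Q a hQa (refl Q a' hQa0' (p j w₀)) else p m w₀ := by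
    intro m
    show p m (refl Q a hQa (refl Q a' hQa0' w₀)) = _
    split_ifs with hm
    · subst hm
      rw [h.proj_refl ha, h.proj_refl ha']
    · rw [h.proj_refl_ne hm ha, h.proj_refl_ne hm ha']
  have hzD : z ∈ D j := by
    refine h.mem_of fun m hm => ?_
    rw [hz, map_sub, hcomp, if_neg hm, sub_self]
  have hz0 : z ≠ 0 := by
    intro h0
    have h3 := congrArg (p j) h0
    rw [hz, map_sub, hcomp, if_pos rfl, map_zero, sub_eq_zero] at h3
    exact hwj (eq_zero_of_fix hef.rank (h.nondegOn hG.nondeg j) ha ha' hQa hQa0' hind (h.mem j w₀)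
      h3.symm)
  refine hef.mem_of_closed hq (hasGroup Q M hw.sing) ?_ (w := z) h2 hzD hz0 hwD
  intro c hc hQc y hy hyD
  obtain ⟨c', hc', hQc'⟩ := rep hD l (Q c) hQc
  have hQc0' : Q c' ≠ 0 := by rw [hQc']; exact hQc
  have h3 := Has.map (show Has Q M s y from hy) (g := refl Q c hQc * refl Q c' hQc0')
    ((O Q).mul_mem (refl_mem_O _) (refl_mem_O _))
    (hH (h.refl_mul_refl_mem hG hc hc' hQc hQc0' hQc'.symm))
  have e3 : (refl Q c hQc * refl Q c' hQc0') s = s := by
    show refl Q c hQc (refl Q c' hQc0' s) = s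
    rw [fixs' c' hc', fixs c hc]
  have e4 : (refl Q c hQc * refl Q c' hQc0') y = refl Q c hQc y := by
    show refl Q c hQc (refl Q c' hQc0' y) = refl Q c hQc y
    rw [refl_apply (v := c'), h.orth l j hjl.symm c' hc' y hyD, mul_zero, zero_smul, sub_zero]
  rw [e3, e4] at h3
  exact h3

/-- In a hyperbolic plane the vectors orthogonal to a nonzero singular vector are its multiples. -/
theorem HB.eq_smul_of_perp {W : Submodule F V} {e f : V} (h : HB Q W e f) {s z : V} (hs : s ∈ W)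
    (hs0 : s ≠ 0) (hQs : Q s = 0) (hz : z ∈ W) (hsz : polar Q s z = 0) : ∃ c : F, z = c • s := by
  obtain ⟨a, b, rfl⟩ := h.span s hs
  obtain ⟨c, d, rfl⟩ := h.span z hz
  rw [h.Q_eq] at hQs
  rw [h.polar_eq] at hsz
  rcases mul_eq_zero.1 hQs with ha | hb
  · subst ha
    have hb : b ≠ 0 := by
      rintro rfl
      exact hs0 (by simp)
    rw [zero_mul, zero_add] at hsz
    have hc : c = 0 := (mul_eq_zero.1 hsz).resolve_left hb
    refine ⟨d / b, ?_⟩
    rw [hc, smul_add, smul_smul, smul_smul, mul_zero, div_mul_cancel₀ _ hb]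
  · subst hb
    have ha : a ≠ 0 := by
      rintro rfl
      exact hs0 (by simp)
    rw [zero_mul, add_zero] at hsz
    have hd : d = 0 := (mul_eq_zero.1 hsz).resolve_left ha
    refine ⟨c / a, ?_⟩
    rw [hd, smul_add, smul_smul, smul_smul, mul_zero, div_mul_cancel₀ _ ha]

/-- **A Siegel transformation at a singular vector of a member generates everything.** -/
theorem E_le_of_has (hq : 7 ≤ Nat.card F) (hG : Good Q) (h : Dec Q D p)
    (hD : ∀ i, ∃ e f, HB Q (D i) e f)
    (hiso : ∀ i j, ∃ e : D i ≃ₗ[F] D j, ∀ z : D i, Q (e z : V) = Q (z : V)) (ht : 4 ≤ t)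
    (hMO : M ≤ O Q) (hH : stabFamily D ⊓ E Q ≤ M) {i : Fin t} {s w : V} (hs : s ∈ D i)
    (hs0 : s ≠ 0) (hw : Has Q M s w) (hws : ∀ c : F, w ≠ c • s) : E Q ≤ M := by
  classical
  obtain ⟨e, f, hef⟩ := hD i
  have hQs := hw.sing
  have hps : ∀ j, j ≠ i → p j s = 0 := fun j hj => h.other j i hj s hs
  obtain ⟨j, hji, hj⟩ : ∃ j, j ≠ i ∧ p j w ≠ 0 := by
    by_contra hc
    push Not at hc
    obtain ⟨c, hc'⟩ := HB.eq_smul_of_perp hef hs hs0 hQs (h.mem_of hc) hw.perp
    exact hws c hc'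
  obtain ⟨l, hl⟩ := exists_notMem_finset ({i, j} : Finset (Fin t))
    (lt_of_le_of_lt Finset.card_le_two (by omega))
  simp only [Finset.mem_insert, Finset.mem_singleton, not_or] at hl
  have hJ : ∀ z ∈ D j, Has Q M s z := fun z hz =>
    has_member hq hG h hD hMO hH (Ne.symm hl.2) (hps j hji) (hps l hl.1) hw hj hz
  have hall : ∀ m, m ≠ i → ∀ z ∈ D m, Has Q M s z := by
    intro m hm z hz
    by_cases hmj : m = j
    · subst hmj
      exact hJ z hz
    obtain ⟨l', hl'⟩ := exists_notMem_finset ({i, j, m} : Finset (Fin t))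
      (lt_of_le_of_lt Finset.card_le_three (by omega))
    simp only [Finset.mem_insert, Finset.mem_singleton, not_or] at hl'
    exact has_other hG h hiso (rep hD) hMO hH hmj hl'.2.1 (hps m hm) (hps j hji) (hps l' hl'.1) hJ hz
  have hfull : Full Q M s := by
    refine ⟨hQs, fun z hz => ?_⟩
    have hpz : polar Q s (p i z) = 0 := by rw [← h.polar_right i z hs]; exact hz
    obtain ⟨c, hc⟩ := HB.eq_smul_of_perp hef hs hs0 hQs (h.mem i z) hpz
    have hsum : ∀ S : Finset (Fin t), i ∉ S → Has Q M s (∑ m ∈ S, p m z) := by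
      intro S
      induction S using Finset.induction_on with
      | empty =>
        intro _
        rw [Finset.sum_empty]
        exact has_zero hQs
      | insert m S hm ih =>
        intro hiS
        simp only [Finset.mem_insert, not_or] at hiS
        rw [Finset.sum_insert hm]
        exact (hall m (Ne.symm hiS.1) _ (h.mem m z)).add (ih hiS.2)
    have hz' : z = (∑ m ∈ Finset.univ.erase i, p m z) + c • s := by
      rw [← hc, Finset.sum_erase_add _ _ (Finset.mem_univ i), h.sum]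
    rw [hz']
    exact (hsum _ (Finset.notMem_erase i _)).add (has_self hQs c)
  -- an opposite vector
  have hQc : Q (e + (1 : F) • f) ≠ 0 := by rw [hef.exists_value]; exact one_ne_zero
  have hcD : e + (1 : F) • f ∈ D i := (D i).add_mem hef.he ((D i).smul_mem _ hef.hf)
  have hcs : polar Q (e + (1 : F) • f) s ≠ 0 := by
    intro h0
    obtain ⟨c, hc⟩ := HB.eq_smul_of_perp hef hs hs0 hQs hcD (by rw [polar_comm]; exact h0)
    rw [hc, QuadraticMap.map_smul, hQs, smul_zero] at hQc
    exact hQc rfl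
  set c₀ := e + (1 : F) • f with hc₀
  obtain ⟨c', hc', hQc'⟩ := rep hD l (Q c₀) hQc
  have hQc0' : Q c' ≠ 0 := by rw [hQc']; exact hQc
  have hF' := hfull.map (g := refl Q c₀ hQc * refl Q c' hQc0')
    ((O Q).mul_mem (refl_mem_O _) (refl_mem_O _))
    (hH (h.refl_mul_refl_mem hG hcD hc' hQc hQc0' hQc'.symm))
  have e1 : (refl Q c₀ hQc * refl Q c' hQc0') s = refl Q c₀ hQc s := by
    show refl Q c₀ hQc (refl Q c' hQc0' s) = _
    congr 1
    rw [refl_apply, h.orth l i hl.1 c' hc' s hs, mul_zero, zero_smul, sub_zero]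
  rw [e1] at hF'
  refine E_le_of_full_pair hG hfull hF' ?_
  rw [refl_apply, polar_sub_right, polar_self', hQs, polar_smul_right, polar_comm Q s c₀, smul_eq_mul,
    mul_zero, zero_sub]
  exact neg_ne_zero.2 (mul_ne_zero (mul_ne_zero (inv_ne_zero hQc) hcs) hcs)

/-- A linked vector with a nonzero singular component generates everything. -/
theorem E_le_of_sing_comp (hq : 7 ≤ Nat.card F) (hG : Good Q) (h : Dec Q D p)
    (hD : ∀ i, ∃ e f, HB Q (D i) e f)
    (hiso : ∀ i j, ∃ e : D i ≃ₗ[F] D j, ∀ z : D i, Q (e z : V) = Q (z : V)) (ht : 4 ≤ t)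
    (hMO : M ≤ O Q) (hH : stabFamily D ⊓ E Q ≤ M) {x : V} (hx : Linked Q D M x) {i : Fin t}
    (hi : p i x ≠ 0) (hQi : Q (p i x) = 0) : E Q ≤ M := by
  classical
  obtain ⟨hQx, -⟩ := id hx
  -- a hyperbolic basis with `p i x = a • e`
  obtain ⟨e, f, hef, a, hax⟩ : ∃ e f, HB Q (D i) e f ∧ ∃ a : F, p i x = a • e := by
    obtain ⟨e, f, hef⟩ := hD i
    obtain ⟨a, b, hab⟩ := hef.span _ (h.mem i x)
    rw [hab, hef.Q_eq] at hQi
    rcases mul_eq_zero.1 hQi with h0 | h0
    · exact ⟨f, e, hef.symm, b, by rw [hab, h0, zero_smul, zero_add]⟩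
    · exact ⟨e, f, hef, a, by rw [hab, h0, zero_smul, add_zero]⟩
  obtain ⟨l, hl⟩ := exists_notMem ({0, 1, -1} : Finset F)
    (lt_of_le_of_lt Finset.card_le_three (by omega))
  simp only [Finset.mem_insert, Finset.mem_singleton, not_or] at hl
  obtain ⟨hl0, hl1, hl2⟩ := hl
  have hll : 1 - l * l ≠ 0 := by
    intro h0
    rcases mul_self_eq_one_iff.1 (show l * l = 1 by linear_combination -h0) with h1 | h1
    · exact hl1 h1
    · exact hl2 h1
  have hQ1 : Q ((1 : F) • e + (1 : F) • f) ≠ 0 := by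
    rw [hef.Q_eq, mul_one]; exact one_ne_zero
  have hQ2 : Q (l • e + l⁻¹ • f) ≠ 0 := by
    rw [hef.Q_eq, mul_inv_cancel₀ hl0]; exact one_ne_zero
  have hg := h.refl_mul_refl_mem hG (hef.mem l l⁻¹) (hef.mem 1 1) hQ2 hQ1
    (by rw [hef.Q_eq, hef.Q_eq, mul_inv_cancel₀ hl0, mul_one])
  set g := refl Q (l • e + l⁻¹ • f) hQ2 * refl Q ((1 : F) • e + (1 : F) • f) hQ1 with hgdef
  have hgi : g (p i x) = (l * l) • p i x := by
    show refl Q (l • e + l⁻¹ • f) hQ2 (refl Q ((1 : F) • e + (1 : F) • f) hQ1 (p i x)) = _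
    have e0 : p i x = a • e + (0 : F) • f := by rw [hax, zero_smul, add_zero]
    rw [e0, hef.refl_apply' one_ne_zero one_ne_zero, hef.refl_apply' hl0 (inv_ne_zero hl0)]
    match_scalars
    · field_simp
    · ring
  have hgx : g x = x - (1 - l * l) • p i x := by
    refine h.ext fun m => ?_
    have hcomp : p m (g x) = g (p m x) := by
      by_cases hm : m = i
      · subst hm
        show p m (refl Q _ hQ2 (refl Q _ hQ1 x)) = refl Q _ hQ2 (refl Q _ hQ1 (p m x))
        rw [h.proj_refl (hef.mem l l⁻¹), h.proj_refl (hef.mem 1 1)]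
      · show p m (refl Q _ hQ2 (refl Q _ hQ1 x)) = refl Q _ hQ2 (refl Q _ hQ1 (p m x))
        rw [h.proj_refl_ne hm (hef.mem l l⁻¹), h.proj_refl_ne hm (hef.mem 1 1),
          refl_fix h hm (hef.mem 1 1) hQ1 (h.mem m x), refl_fix h hm (hef.mem l l⁻¹) hQ2 (h.mem m x)]
    rw [hcomp, map_sub, map_smul]
    by_cases hm : m = i
    · subst hm
      rw [h.self m _ (h.mem m x), hgi]
      module
    · rw [h.other m i hm _ (h.mem i x), smul_zero, sub_zero]
      show refl Q _ hQ2 (refl Q _ hQ1 (p m x)) = p m x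
      rw [refl_fix h hm (hef.mem 1 1) hQ1 (h.mem m x), refl_fix h hm (hef.mem l l⁻¹) hQ2 (h.mem m x)]
  have hQs : Q ((1 - l * l) • p i x) = 0 := by rw [QuadraticMap.map_smul, hQi, smul_zero]
  have hsx : polar Q ((1 - l * l) • p i x) x = 0 := by
    rw [polar_smul_left, h.polar_right i x (h.mem i x), polar_self_of_sing hQi, smul_zero]
  have hhas := has_of_move h hG hMO hH hx hg hgx hQs hsx
  refine E_le_of_has hq hG h hD hiso ht hMO hH ((D i).smul_mem _ (h.mem i x))
    (smul_ne_zero hll hi) hhas ?_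
  intro c hc
  have h1 : Q ((-(Q x)⁻¹) • x) = 0 := by rw [hc, QuadraticMap.map_smul, hQs, smul_zero]
  rw [QuadraticMap.map_smul, smul_eq_mul] at h1
  exact (mul_ne_zero (mul_ne_zero (neg_ne_zero.2 (inv_ne_zero hQx)) (neg_ne_zero.2
    (inv_ne_zero hQx))) hQx) h1

end Planes

end Cfsg.Agent.H886.HypNonRigid
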