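import Cfsg.Agent.H886.HypNonRigid

/-!
Non-rigid overgroups of the stabiliser of an orthogonal decomposition into hyperbolic planes contain `E Q`
(at least six members, `|F| ≥ 7`), second part.
-/

set_option autoImplicit false
set_option linter.unusedSectionVars false
set_option linter.unusedVariables false

namespace Cfsg.Agent.H886.HypNonRigid

open QuadraticMap Cfsg.Agent.LieClassical.OrthCore Cfsg.Agent.LieClassical.OrthTrans
  Cfsg.Agent.LieClassical.OrthFinite Cfsg.Agent.LieClassical.OrthSimple Cfsg.Agent.H883.Bridge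
  Cfsg.Agent.H883.Root Cfsg.Agent.H883.Sub Cfsg.Agent.H886.Decomp Cfsg.Agent.H886.Rigid
  Cfsg.Agent.H886.PlaneRigid Cfsg.Agent.H886.DecTools Cfsg.Agent.H886.HypPl
open Cfsg.Agent.H886.PlaneNonRigid (Linked linked_move linked_refl has_of_move exists_notMem_finset
  refl_mul_refl_factor refl_pair_apply hasGroup has_other)

variable {F V : Type*} [Field F] [AddCommGroup V] [Module F V] {Q : QuadraticForm F V} {t : ℕ}
  {D : Fin t → Submodule F V} {p : Fin t → V →ₗ[F] V} {M : Subgroup (V ≃ₗ[F] V)}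

/-- In a hyperbolic plane the difference of two distinct vectors of the same nonzero norm is nonsingular. -/
theorem HB.Q_sub_ne {W : Submodule F V} {e f : V} (h : HB Q W e f) {x y : V} (hx : x ∈ W)
    (hy : y ∈ W) (hQx : Q x ≠ 0) (hQ : Q y = Q x) (hne : x ≠ y) : Q (x - y) ≠ 0 := by
  obtain ⟨a, b, rfl⟩ := h.span x hx
  obtain ⟨c, d, rfl⟩ := h.span y hy
  rw [h.Q_eq] at hQx hQ
  rw [h.Q_eq] at hQ
  have ha : a ≠ 0 := left_ne_zero_of_mul hQx
  have hb : b ≠ 0 := right_ne_zero_of_mul hQx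
  have e1 : a • e + b • f - (c • e + d • f) = (a - c) • e + (b - d) • f := by module
  rw [e1, h.Q_eq]
  intro h0
  apply hne
  rcases mul_eq_zero.1 h0 with h1 | h1
  · have hac : a = c := by linear_combination h1
    have hbd : b = d := by
      apply mul_left_cancel₀ ha
      rw [← hQ, hac]
    rw [hac, hbd]
  · have hbd : b = d := by linear_combination h1
    have hac : a = c := by
      apply mul_right_cancel₀ hb
      rw [← hQ, hbd]
    rw [hac, hbd]

section Planes

variable [Finite F] [FiniteDimensional F V]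

/-- A linked vector outside the members leads to one with three nonzero components, or to everything. -/
theorem exists_three (hq : 7 ≤ Nat.card F) (hG : Good Q) (h : Dec Q D p)
    (hD : ∀ i, ∃ e f, HB Q (D i) e f)
    (hiso : ∀ i j, ∃ e : D i ≃ₗ[F] D j, ∀ z : D i, Q (e z : V) = Q (z : V)) (ht : 4 ≤ t)
    (hMO : M ≤ O Q) (hH : stabFamily D ⊓ E Q ≤ M) {x : V} (hx : Linked Q D M x)
    (hxD : ∀ i, x ∉ D i) (hns : ∀ i, p i x ≠ 0 → Q (p i x) ≠ 0) :
    ∃ x', Linked Q D M x' ∧ ∃ i j l, i ≠ j ∧ i ≠ l ∧ j ≠ l ∧ p i x' ≠ 0 ∧ p j x' ≠ 0 ∧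
      p l x' ≠ 0 := by
  obtain ⟨hQx, -⟩ := id hx
  obtain ⟨i, hi⟩ : ∃ i, p i x ≠ 0 := by
    by_contra hc
    push Not at hc
    rw [h.eq_zero hc, QuadraticMap.map_zero] at hQx
    exact hQx rfl
  obtain ⟨j, hji, hj⟩ := h.exists_ne (hxD i)
  by_cases hl : ∃ l, l ≠ i ∧ l ≠ j ∧ p l x ≠ 0
  · obtain ⟨l, hli, hlj, hl⟩ := hl
    exact ⟨x, hx, i, j, l, hji.symm, hli.symm, hlj.symm, hi, hj, hl⟩
  push Not at hl
  obtain ⟨l, hlS⟩ := exists_notMem_finset ({i, j} : Finset (Fin t))
    (lt_of_le_of_lt Finset.card_le_two (by omega))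
  obtain ⟨m, hmS⟩ := exists_notMem_finset ({i, j, l} : Finset (Fin t))
    (lt_of_le_of_lt Finset.card_le_three (by omega))
  simp only [Finset.mem_insert, Finset.mem_singleton, not_or] at hlS hmS
  obtain ⟨hli, hlj⟩ := hlS
  obtain ⟨hmi, hmj, hml⟩ := hmS
  have hxs : x = p i x + p j x := by
    refine h.ext fun k => ?_
    rw [map_add]
    by_cases hki : k = i
    · subst hki
      rw [h.self k _ (h.mem k x), h.other k j hji.symm _ (h.mem j x), add_zero]
    by_cases hkj : k = j
    · subst hkj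
      rw [h.self k _ (h.mem k x), h.other k i hki _ (h.mem i x), zero_add]
    rw [h.other k i hki _ (h.mem i x), h.other k j hkj _ (h.mem j x), hl k hki hkj, add_zero]
  -- a vector `y` of the same norm as `p i x`
  obtain ⟨e₀, f₀, hef⟩ := hD i
  obtain ⟨y, hy, hQy, h1, h2⟩ := hef.exists_other hq (h.mem i x) (hns i hi)
  have hcm : p i x - y ∈ D i := (D i).sub_mem (h.mem i x) hy
  have hQc : Q (p i x - y) ≠ 0 := HB.Q_sub_ne hef (h.mem i x) hy (hns i hi) hQy (fun h0 =>
    h2 1 (by rw [one_smul]; exact h0.symm))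
  have hr := refl_sub_apply hQy hQc
  obtain ⟨e, he⟩ := hiso j l
  obtain ⟨τ, hτO, hτD, hτ0, hτj, -⟩ := DecTools.exists_swap h (Ne.symm hlj) e he
  have hgO : τ * refl Q (p i x - y) hQc ∈ O Q := (O Q).mul_mem hτO (refl_mem_O hQc)
  have hgD : τ * refl Q (p i x - y) hQc ∈ stabFamily D :=
    (stabFamily D).mul_mem hτD (h.refl_mem_stabFamily hcm hQc)
  obtain ⟨g, hgH, hg⟩ := exists_mem h hG m (rep hD m) hgO hgD
  have hxm : p m x = 0 := hl m hmi hmj
  set z : V := τ (p j x) with hz
  have hzl : z ∈ D l := by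
    rw [hz, hτj _ (h.mem j x)]
    exact Submodule.coe_mem _
  have hz0 : z ≠ 0 := by
    intro h0
    rw [hz] at h0
    exact hj (by rwa [LinearEquiv.map_eq_zero_iff] at h0)
  have hgx : g x = y + z := by
    rw [hg x hxm]
    show τ (refl Q (p i x - y) hQc x) = y + z
    have e1 : refl Q (p i x - y) hQc x = y + p j x := by
      have e2 : refl Q (p i x - y) hQc x = refl Q (p i x - y) hQc (p i x + p j x) :=
        congrArg _ hxs
      rw [e2, map_add, hr, refl_apply, h.orth i j hji.symm _ hcm _ (h.mem j x), mul_zero, zero_smul,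
        sub_zero]
    rw [e1, map_add, hτ0 y (h.other j i hji y hy) (h.other l i hli y hy)]
  have hQgx : Q (g x) ≠ 0 := by rw [mem_O.1 (E_le_O hgH.2)]; exact hQx
  refine ⟨_, linked_refl h hG hMO hH hx hgH hQgx, i, j, l, hji.symm, Ne.symm hli, Ne.symm hlj, ?_,
    ?_, ?_⟩
  all_goals rw [refl_apply, map_sub, map_smul]
  all_goals
    have hpol : polar Q (g x) x = polar Q y (p i x) := by
      rw [hgx, polar_add_left, h.polar_right i x hy, h.polar_right l x hzl, hl l hli hlj,
        polar_zero_right, add_zero]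
    have hκ : (Q (g x))⁻¹ * polar Q (g x) x ≠ 0 := by
      refine mul_ne_zero (inv_ne_zero hQgx) ?_
      rw [hpol, polar_comm]
      exact h1
    generalize (Q (g x))⁻¹ * polar Q (g x) x = κ at hκ ⊢
  · rw [hgx, map_add, h.self i y hy, h.other i l (Ne.symm hli) z hzl, add_zero]
    intro h0
    rw [sub_eq_zero] at h0
    apply h2 κ⁻¹
    rw [h0, smul_smul, inv_mul_cancel₀ hκ, one_smul]
  · rw [hgx, map_add, h.other j i hji y hy, h.other j l (Ne.symm hlj) z hzl, add_zero, smul_zero,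
      sub_zero]
    exact hj
  · rw [hl l hli hlj, hgx, map_add, h.other l i hli y hy, h.self l z hzl, zero_add, zero_sub]
    exact neg_ne_zero.2 (smul_ne_zero hκ hz0)

/-- **A linked vector with three nonsingular components gives a Siegel transformation.** -/
theorem exists_siegel (hq : 7 ≤ Nat.card F) (hG : Good Q) (h : Dec Q D p)
    (hD : ∀ i, ∃ e f, HB Q (D i) e f) (ht : 5 ≤ t)
    (hMO : M ≤ O Q) (hH : stabFamily D ⊓ E Q ≤ M) {x : V} (hx : Linked Q D M x)
    (hns : ∀ i, p i x ≠ 0 → Q (p i x) ≠ 0) {i j l : Fin t}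
    (hij : i ≠ j) (hil : i ≠ l) (hjl : j ≠ l) (hi : p i x ≠ 0) (hj : p j x ≠ 0) (hl : p l x ≠ 0) :
    ∃ s w : V, s ≠ 0 ∧ Has Q M s w ∧ ∃ S : Finset (Fin t), S.card ≤ 4 ∧ (∀ k, k ∉ S → p k s = 0) ∧
      ∃ k, k ∉ S ∧ p k w ≠ 0 := by
  classical
  obtain ⟨hQx, -⟩ := id hx
  have hκ : -(Q x)⁻¹ ≠ 0 := neg_ne_zero.2 (inv_ne_zero hQx)
  have hrep := rep (Q := Q) hD
  choose e₀ f₀ hef using hD
  -- pairs
  obtain ⟨c, hc, d, hd, hQc, hQd, hcx, hdx, hcd⟩ :=
    HB.exists_pair_sing hq (hef i) (hef j) (h.mem i x) (hns i hi) (h.mem j x) (hns j hj)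
  have hc0 : c ≠ 0 := by
    rintro rfl
    exact hQc (QuadraticMap.map_zero Q)
  have hpcd : polar Q c d = 0 := h.orth i j hij c hc d hd
  have hcx' : polar Q c x = Q c := by rw [h.polar_right i x hc, hcx]
  have hdx' : polar Q d x = Q d := by rw [h.polar_right j x hd, hdx]
  have hQcd : Q (c + d) = 0 := by rw [Q_add, hpcd, add_zero, hcd]
  have hpix : ∀ k, k ≠ i → k ≠ j → p k (c + d) = 0 := by
    intro k h1 h2
    rw [map_add, h.other k i h1 c hc, h.other k j h2 d hd, add_zero]
  have hcd0 : c + d ≠ 0 := by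
    intro h0
    have := congrArg (p i) h0
    rw [map_add, h.self i c hc, h.other i j hij d hd, add_zero, map_zero] at this
    exact hc0 this
  have hxcd : polar Q (c + d) x = 0 := by rw [polar_add_left, hcx', hdx', hcd]
  have hgx : (refl Q c hQc * refl Q d hQd) x = x - (c + d) := by
    show refl Q c hQc (refl Q d hQd x) = _
    rw [refl_pair_apply h hd hQd hdx, refl_pair_apply h hc hQc (by
      rw [map_sub, h.other i j hij d hd, sub_zero]; exact hcx)]
    abel
  have hgO : refl Q c hQc * refl Q d hQd ∈ O Q := (O Q).mul_mem (refl_mem_O _) (refl_mem_O _)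
  have hgD : refl Q c hQc * refl Q d hQd ∈ stabFamily D :=
    (stabFamily D).mul_mem (h.refl_mem_stabFamily hc _) (h.refl_mem_stabFamily hd _)
  -- the short case
  have short : (∃ g ∈ stabFamily D ⊓ E Q, g x = x - (c + d)) →
      ∃ s w : V, s ≠ 0 ∧ Has Q M s w ∧ ∃ S : Finset (Fin t), S.card ≤ 4 ∧
        (∀ k, k ∉ S → p k s = 0) ∧ ∃ k, k ∉ S ∧ p k w ≠ 0 := by
    rintro ⟨g, hg, hgx⟩
    refine ⟨c + d, (-(Q x)⁻¹) • x, hcd0, has_of_move h hG hMO hH hx hg hgx hQcd hxcd, {i, j},
      le_trans Finset.card_le_two (by omega), ?_, l, ?_, ?_⟩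
    · intro k hk
      simp only [Finset.mem_insert, Finset.mem_singleton, not_or] at hk
      exact hpix k hk.1 hk.2
    · simp only [Finset.mem_insert, Finset.mem_singleton, not_or]
      exact ⟨Ne.symm hil, Ne.symm hjl⟩
    · rw [map_smul]
      exact smul_ne_zero hκ hl
  by_cases hfull : ∃ m, p m x = 0
  · obtain ⟨m, hm⟩ := hfull
    apply short
    obtain ⟨g, hg, hg'⟩ := exists_mem h hG m (hrep m) hgO hgD
    exact ⟨g, hg, by rw [hg' x hm, hgx]⟩
  push Not at hfull
  by_cases hsq : IsSquare (-1 : F)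
  · apply short
    obtain ⟨e, he⟩ := hsq
    have he0 : e ≠ 0 := by
      rintro rfl
      rw [mul_zero] at he
      exact (neg_ne_zero.2 one_ne_zero) he
    refine ⟨_, ⟨hgD, refl_mul_refl_factor hG hQc hQd he0 ?_⟩, hgx⟩
    rw [← he]
    linear_combination hcd
  -- two pairs
  obtain ⟨l', hl'S⟩ := exists_notMem_finset ({i, j, l} : Finset (Fin t))
    (lt_of_le_of_lt Finset.card_le_three (by omega))
  obtain ⟨k, hkS⟩ := exists_notMem_finset ({i, j, l, l'} : Finset (Fin t))
    (lt_of_le_of_lt Finset.card_le_four (by omega))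
  obtain ⟨c', hc', d', hd', hQc', hQd', hcx2, hdx2, hcd2⟩ :=
    HB.exists_pair_sing hq (hef l) (hef l') (h.mem l x) (hns l hl) (h.mem l' x)
      (hns l' (hfull l'))
  simp only [Finset.mem_insert, Finset.mem_singleton, not_or] at hl'S
  obtain ⟨hl'i, hl'j, hl'l⟩ := hl'S
  have o1 : polar Q c c' = 0 := h.orth i l hil c hc c' hc'
  have o2 : polar Q c d' = 0 := h.orth i l' (Ne.symm hl'i) c hc d' hd'
  have o3 : polar Q d c' = 0 := h.orth j l hjl d hd c' hc'
  have o4 : polar Q d d' = 0 := h.orth j l' (Ne.symm hl'j) d hd d' hd'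
  have o5 : polar Q c' d' = 0 := h.orth l l' (Ne.symm hl'l) c' hc' d' hd'
  have hcx2' : polar Q c' x = Q c' := by rw [h.polar_right l x hc', hcx2]
  have hdx2' : polar Q d' x = Q d' := by rw [h.polar_right l' x hd', hdx2]
  have hgE : refl Q c hQc * refl Q d hQd * (refl Q c' hQc' * refl Q d' hQd') ∈ E Q := by
    have hd1 : Q d = -Q c := by linear_combination hcd
    have hd2 : Q d' = -Q c' := by linear_combination hcd2
    by_cases hcc : IsSquare (Q c * Q c')
    · obtain ⟨e, he, hQ⟩ := exists_factor hQc hQc' hcc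
      have e1 : refl Q c hQc * refl Q d hQd * (refl Q c' hQc' * refl Q d' hQd') =
          (refl Q c hQc * refl Q c' hQc') * (refl Q d hQd * refl Q d' hQd') := by
        have := refl_comm (Q := Q) hQd hQc' o3
        calc _ = refl Q c hQc * (refl Q d hQd * refl Q c' hQc') * refl Q d' hQd' := by group
          _ = _ := by rw [this]; group
      rw [e1]
      exact (E Q).mul_mem (refl_mul_refl_factor hG hQc hQc' he hQ)
        (refl_mul_refl_factor hG hQd hQd' he (by rw [hd1, hd2, hQ]; ring))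
    · have hcc' : IsSquare (Q c * Q d') := by
        have := isSquare_mul_of_not hsq hcc
        rw [hd2]
        obtain ⟨r, hr⟩ := this
        exact ⟨r, by rw [← hr]; ring⟩
      obtain ⟨e, he, hQ⟩ := exists_factor hQc hQd' hcc'
      have e1 : refl Q c hQc * refl Q d hQd * (refl Q c' hQc' * refl Q d' hQd') =
          (refl Q d hQd * refl Q c' hQc') * (refl Q c hQc * refl Q d' hQd') := by
        have h1 := refl_comm (Q := Q) hQc hQd hpcd
        have h2 := refl_comm (Q := Q) hQc hQc' o1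
        calc _ = (refl Q c hQc * refl Q d hQd) * refl Q c' hQc' * refl Q d' hQd' := by group
          _ = refl Q d hQd * (refl Q c hQc * refl Q c' hQc') * refl Q d' hQd' := by rw [h1]; group
          _ = _ := by rw [h2]; group
      rw [e1]
      exact (E Q).mul_mem (refl_mul_refl_factor hG hQd hQc' he (by
          rw [hd1]
          linear_combination -hQ + hd2))
        (refl_mul_refl_factor hG hQc hQd' he hQ)
  have hgD' : refl Q c hQc * refl Q d hQd * (refl Q c' hQc' * refl Q d' hQd') ∈ stabFamily D :=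
    (stabFamily D).mul_mem hgD
      ((stabFamily D).mul_mem (h.refl_mem_stabFamily hc' _) (h.refl_mem_stabFamily hd' _))
  have hgx' : (refl Q c hQc * refl Q d hQd * (refl Q c' hQc' * refl Q d' hQd')) x =
      x - (c + d + (c' + d')) := by
    show (refl Q c hQc * refl Q d hQd) (refl Q c' hQc' (refl Q d' hQd' x)) = _
    rw [refl_pair_apply h hd' hQd' hdx2, refl_pair_apply h hc' hQc' (by
      rw [map_sub, h.other l l' (Ne.symm hl'l) d' hd', sub_zero]; exact hcx2)]
    have e2 : (refl Q c hQc * refl Q d hQd) (x - d' - c') =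
        (refl Q c hQc * refl Q d hQd) x - (d' + c') := by
      rw [sub_sub, map_sub, map_add]
      have f1 : (refl Q c hQc * refl Q d hQd) d' = d' := by
        show refl Q c hQc (refl Q d hQd d') = d'
        rw [refl_apply (v := d), o4, mul_zero, zero_smul, sub_zero, refl_apply, o2, mul_zero, zero_smul,
          sub_zero]
      have f2 : (refl Q c hQc * refl Q d hQd) c' = c' := by
        show refl Q c hQc (refl Q d hQd c') = c'
        rw [refl_apply (v := d), o3, mul_zero, zero_smul, sub_zero, refl_apply, o1, mul_zero, zero_smul,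
          sub_zero]
      rw [f1, f2]
    rw [e2, hgx]
    abel
  have hQs : Q (c + d + (c' + d')) = 0 := by
    rw [Q_add, hQcd, Q_add, o5, polar_add_left, polar_add_right, polar_add_right, o1, o2, o3, o4]
    linear_combination hcd2
  have hxs : polar Q (c + d + (c' + d')) x = 0 := by
    rw [polar_add_left, hxcd, polar_add_left, hcx2', hdx2']
    linear_combination hcd2
  refine ⟨c + d + (c' + d'), (-(Q x)⁻¹) • x, ?_, has_of_move h hG hMO hH hx ⟨hgD', hgE⟩ hgx' hQs hxs,
    {i, j, l, l'}, Finset.card_le_four, ?_, k, hkS, ?_⟩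
  · intro h0
    have := congrArg (p i) h0
    rw [map_add, map_add, map_add, h.self i c hc, h.other i j hij d hd, h.other i l hil c' hc',
      h.other i l' (Ne.symm hl'i) d' hd', map_zero, add_zero, add_zero, add_zero] at this
    exact hc0 this
  · intro k hk
    simp only [Finset.mem_insert, Finset.mem_singleton, not_or] at hk
    rw [map_add, hpix k hk.1 hk.2.1, map_add, h.other k l hk.2.2.1 c' hc',
      h.other k l' hk.2.2.2 d' hd', add_zero, add_zero]
  · rw [map_smul]
    exact smul_ne_zero hκ (hfull k)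

/-- **Non-rigid overgroups contain `E Q`.** -/
theorem E_le_of_not_rigid (hq : 7 ≤ Nat.card F) (hG : Good Q) (h : Dec Q D p)
    (hD : ∀ i, ∃ e f, HB Q (D i) e f)
    (hiso : ∀ i j, ∃ e : D i ≃ₗ[F] D j, ∀ z : D i, Q (e z : V) = Q (z : V))
    (ht : 6 ≤ t) (hMO : M ≤ O Q) (hH : stabFamily D ⊓ E Q ≤ M) (hR : ¬ Rigid Q D M) : E Q ≤ M := by
  classical
  obtain ⟨x, hx, hxD⟩ : ∃ x, Linked Q D M x ∧ ∀ i, x ∉ D i := by
    unfold Rigid at hR
    push Not at hR
    obtain ⟨i, a, ha, hQa, x, hQx, hM, hx⟩ := hR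
    exact ⟨x, ⟨hQx, i, a, ha, hQa, hM⟩, hx⟩
  by_cases hns : ∀ i, p i x ≠ 0 → Q (p i x) ≠ 0
  swap
  · push Not at hns
    obtain ⟨i, hi, hQi⟩ := hns
    exact E_le_of_sing_comp hq hG h hD hiso (by omega) hMO hH hx hi hQi
  obtain ⟨x', hx', i₁, i₂, i₃, h12, h13, h23, hc1, hc2, hc3⟩ :=
    exists_three hq hG h hD hiso (by omega) hMO hH hx hxD hns
  by_cases hns' : ∀ i, p i x' ≠ 0 → Q (p i x') ≠ 0
  swap
  · push Not at hns'
    obtain ⟨i, hi, hQi⟩ := hns'
    exact E_le_of_sing_comp hq hG h hD hiso (by omega) hMO hH hx' hi hQi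
  obtain ⟨s, w, hs0, hsw, S, hS, hpS, a, haS, haw⟩ :=
    exists_siegel hq hG h hD (by omega) hMO hH hx' hns' h12 h13 h23 hc1 hc2 hc3
  obtain ⟨b, hb⟩ := exists_notMem_finset (insert a S)
    (lt_of_le_of_lt (Finset.card_insert_le _ _) (by omega))
  simp only [Finset.mem_insert, not_or] at hb
  have hA : ∀ w ∈ D a, Has Q M s w := fun w hw =>
    has_member hq hG h hD hMO hH (Ne.symm hb.1) (hpS a haS) (hpS b hb.2) hsw haw hw
  obtain ⟨e, f, hef⟩ := hD a
  have h1 := (hA e hef.he).swap hef.Qe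
  refine E_le_of_has hq hG h hD hiso (by omega) hMO hH hef.he hef.e_ne h1 ?_
  intro c hc
  have h2 := congrArg (p a) hc
  rw [map_neg, hpS a haS, neg_zero, map_smul, h.self a e hef.he] at h2
  have h3 := (smul_eq_zero.1 h2.symm).resolve_right hef.e_ne
  rw [h3, zero_smul, neg_eq_zero] at hc
  exact hs0 hc

end Planes

end Cfsg.Agent.H886.HypNonRigid
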