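import Cfsg.Agent.H886.PlaneMax

/-!
Hyperbolic planes of a quadratic space over a finite field with at least seven elements.
-/

set_option autoImplicit false

namespace Cfsg.Agent.H886.HypPl

open QuadraticMap Cfsg.Agent.LieClassical.OrthCore Cfsg.Agent.LieClassical.OrthTrans
  Cfsg.Agent.LieClassical.OrthFinite Cfsg.Agent.LieClassical.OrthSimple Cfsg.Agent.H883.Bridge
  Cfsg.Agent.H883.Root Cfsg.Agent.H883.Sub Cfsg.Agent.H886.Decomp Cfsg.Agent.H886.Rigid
  Cfsg.Agent.H886.Plane

section Scalars

variable {F : Type*} [Field F]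

omit [Field F] in
/-- Avoiding few scalars. -/
theorem exists_notMem [Finite F] (S : Finset F) (hS : S.card < Nat.card F) : ∃ x, x ∉ S := by
  have := Fintype.ofFinite F
  by_contra hc
  push Not at hc
  have : S = Finset.univ := Finset.eq_univ_iff_forall.2 hc
  rw [this, Finset.card_univ, Nat.card_eq_fintype_card] at hS
  exact lt_irrefl _ hS

/-- The roots of a monic quadratic polynomial. -/
theorem exists_roots (b c : F) : ∃ B : Finset F, B.card ≤ 2 ∧ ∀ x, x * x + b * x + c = 0 → x ∈ B := by
  classical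
  by_cases h : ∃ r, r * r + b * r + c = 0
  · obtain ⟨r, hr⟩ := h
    refine ⟨{r, -b - r}, Finset.card_le_two, fun x hx => ?_⟩
    have h1 : (x - r) * (x + r + b) = 0 := by linear_combination hx - hr
    rcases mul_eq_zero.1 h1 with h2 | h2
    · rw [sub_eq_zero.1 h2]; simp
    · have : x = -b - r := by linear_combination h2
      rw [this]; simp
  · push Not at h
    exact ⟨∅, by simp, fun x hx => absurd hx (h x)⟩

end Scalars

variable {F V : Type*} [Field F] [AddCommGroup V] [Module F V] {Q : QuadraticForm F V}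
  {W W' : Submodule F V}

/-- `W` is a hyperbolic plane with hyperbolic pair `e, f`. -/
structure HB (Q : QuadraticForm F V) (W : Submodule F V) (e f : V) : Prop where
  he : e ∈ W
  hf : f ∈ W
  Qe : Q e = 0
  Qf : Q f = 0
  ef : polar Q e f = 1
  span : ∀ y ∈ W, ∃ a b : F, y = a • e + b • f

namespace HB

variable {e f : V}

theorem fe (h : HB Q W e f) : polar Q f e = 1 := by rw [polar_comm]; exact h.ef

theorem symm (h : HB Q W e f) : HB Q W f e where
  he := h.hf
  hf := h.he
  Qe := h.Qf
  Qf := h.Qe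
  ef := h.fe
  span y hy := by
    obtain ⟨a, b, rfl⟩ := h.span y hy
    exact ⟨b, a, add_comm _ _⟩

theorem mem (h : HB Q W e f) (a b : F) : a • e + b • f ∈ W :=
  W.add_mem (W.smul_mem _ h.he) (W.smul_mem _ h.hf)

theorem Q_eq (h : HB Q W e f) (a b : F) : Q (a • e + b • f) = a * b := by
  rw [Q_add, QuadraticMap.map_smul, QuadraticMap.map_smul, h.Qe, h.Qf, polar_smul_left,
    polar_smul_right, h.ef]
  simp

theorem polar_eq (h : HB Q W e f) (a b c d : F) :
    polar Q (a • e + b • f) (c • e + d • f) = a * d + b * c := by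
  rw [polar_add_left, polar_add_right, polar_add_right]
  simp only [polar_smul_left, polar_smul_right, polar_self_of_sing h.Qe, polar_self_of_sing h.Qf,
    h.ef, h.fe, smul_eq_mul]
  ring

theorem e_ne (h : HB Q W e f) : e ≠ 0 := by
  rintro rfl
  have := h.ef
  rw [polar_zero_left] at this
  exact zero_ne_one this

theorem coords (h : HB Q W e f) {a b : F} (h0 : a • e + b • f = 0) : a = 0 ∧ b = 0 := by
  constructor
  · have := congrArg (fun x => polar Q x f) h0
    simp only [polar_zero_left] at this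
    rw [polar_add_left, polar_smul_left, polar_smul_left, h.ef, polar_self_of_sing h.Qf] at this
    simpa using this
  · have := congrArg (fun x => polar Q x e) h0
    simp only [polar_zero_left] at this
    rw [polar_add_left, polar_smul_left, polar_smul_left, h.fe, polar_self_of_sing h.Qe] at this
    simpa using this

theorem rank (h : HB Q W e f) : Module.finrank F W = 2 := by
  have hli : LinearIndependent F ![(⟨e, h.he⟩ : W), ⟨f, h.hf⟩] := by
    rw [LinearIndependent.pair_iff]
    intro s t hst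
    exact h.coords (congrArg Subtype.val hst)
  have hspan : Submodule.span F (Set.range ![(⟨e, h.he⟩ : W), ⟨f, h.hf⟩]) = ⊤ := by
    rw [eq_top_iff]
    rintro ⟨y, hy⟩ -
    rw [Matrix.range_cons, Matrix.range_cons, Matrix.range_empty, Set.union_empty,
      Set.singleton_union, Submodule.mem_span_pair]
    obtain ⟨a, b, hab⟩ := h.span y hy
    exact ⟨a, b, Subtype.ext hab.symm⟩
  rw [← finrank_top, ← hspan, finrank_span_eq_card hli, Fintype.card_fin]

theorem refl_apply' (h : HB Q W e f) {a b : F} (ha : a ≠ 0) (hb : b ≠ 0)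
    (hQ : Q (a • e + b • f) ≠ 0) (x y : F) :
    refl Q (a • e + b • f) hQ (x • e + y • f) = (-(a / b) * y) • e + (-(b / a) * x) • f := by
  rw [refl_apply, h.Q_eq, h.polar_eq]
  match_scalars
  · field_simp
    ring
  · field_simp
    ring

/-- The vectors of norm `v` other than those proportional or orthogonal to a given one. -/
theorem exists_other [Finite F] (hq : 7 ≤ Nat.card F) (h : HB Q W e f) {x : V} (hx : x ∈ W)
    (hQx : Q x ≠ 0) : ∃ y ∈ W, Q y = Q x ∧ polar Q x y ≠ 0 ∧ ∀ c : F, y ≠ c • x := by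
  classical
  obtain ⟨a, b, rfl⟩ := h.span x hx
  rw [h.Q_eq] at hQx ⊢
  have ha : a ≠ 0 := left_ne_zero_of_mul hQx
  have hb : b ≠ 0 := right_ne_zero_of_mul hQx
  obtain ⟨B, hB, hB'⟩ := exists_roots (F := F) 0 1
  obtain ⟨l, hl⟩ := exists_notMem ({0, 1, -1} ∪ B) (lt_of_le_of_lt (Finset.card_union_le _ _) (by
    have : ({0, 1, -1} : Finset F).card ≤ 3 := Finset.card_le_three
    omega))
  simp only [Finset.mem_union, Finset.mem_insert, Finset.mem_singleton, not_or] at hl
  obtain ⟨⟨hl0, hl1, hl2⟩, hl3⟩ := hl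
  refine ⟨(l * a) • e + (l⁻¹ * b) • f, h.mem _ _, ?_, ?_, ?_⟩
  · rw [h.Q_eq]
    field_simp
  · rw [h.polar_eq]
    intro h0
    apply hl3
    apply hB'
    have h1 : (a * b) * (l * l + 1) = 0 := by
      field_simp at h0
      linear_combination h0
    linear_combination (mul_eq_zero.1 h1).resolve_left (mul_ne_zero ha hb)
  · intro c hc
    have h0 : (l * a - c * a) • e + (l⁻¹ * b - c * b) • f = 0 := by
      have : (l * a - c * a) • e + (l⁻¹ * b - c * b) • f =
        ((l * a) • e + (l⁻¹ * b) • f) - c • (a • e + b • f) := by module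
      rw [this, ← hc, sub_self]
    obtain ⟨h1, h2⟩ := h.coords h0
    have h3 : l = c := mul_right_cancel₀ ha (by linear_combination h1)
    have h4 : l⁻¹ = c := mul_right_cancel₀ hb (by linear_combination h2)
    have h5 : l * l = 1 := by
      rw [← h3] at h4
      field_simp at h4
      linear_combination -h4
    rcases mul_self_eq_one_iff.1 h5 with h6 | h6
    · exact hl1 h6
    · exact hl2 h6

theorem exists_value (h : HB Q W e f) (v : F) : Q (e + v • f) = v := by
  have := h.Q_eq 1 v
  rwa [one_smul, one_mul] at this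

theorem conn [Finite F] (hq : 7 ≤ Nat.card F) (h : HB Q W e f) {v : F} (hv : v ≠ 0) :
    Conn Q W v := by
  classical
  refine ⟨{y | y ∈ W ∧ Q y = v}, ⟨_, W.add_mem h.he (W.smul_mem v h.hf), h.exists_value v⟩,
    fun b hb => hb, ?_, ?_⟩
  · have hQx : Q (e + v • f) ≠ 0 := by rw [h.exists_value]; exact hv
    have hx : e + v • f ∈ W := W.add_mem h.he (W.smul_mem v h.hf)
    obtain ⟨y, hy, hQy, -, hyx⟩ := h.exists_other hq hx hQx
    have hfd : FiniteDimensional F W := Module.finite_of_finrank_pos (by rw [h.rank]; omega)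
    have hli : LinearIndependent F ![(⟨e + v • f, hx⟩ : W), (⟨y, hy⟩ : W)] := by
      rw [LinearIndependent.pair_iff' (fun h0 => hQx (by
        have := congrArg Subtype.val h0
        simp only at this
        rw [this]
        exact QuadraticMap.map_zero Q))]
      intro c hc
      exact hyx c (congrArg Subtype.val hc).symm
    have hspan := hli.span_eq_top_of_card_eq_finrank (by rw [h.rank]; rfl)
    intro z hz
    have hz' : (⟨z, hz⟩ : W) ∈ Submodule.span F (Set.range ![(⟨e + v • f, hx⟩ : W),
        (⟨y, hy⟩ : W)]) := by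
      rw [hspan]; exact Submodule.mem_top
    rw [Matrix.range_cons, Matrix.range_cons, Matrix.range_empty, Set.union_empty,
      Set.singleton_union, Submodule.mem_span_pair] at hz'
    obtain ⟨l, m, hlm⟩ := hz'
    have e1 : z = l • (e + v • f) + m • y := (congrArg Subtype.val hlm).symm
    rw [e1]
    exact Submodule.add_mem _ (Submodule.smul_mem _ _ (Submodule.subset_span ⟨hx, h.exists_value v⟩))
      (Submodule.smul_mem _ _ (Submodule.subset_span ⟨hy, by rw [hQy]; exact h.exists_value v⟩))
  · rintro b ⟨hb, hQb⟩ c ⟨hc, hQc⟩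
    obtain ⟨b1, b2, rfl⟩ := h.span b hb
    obtain ⟨c1, c2, rfl⟩ := h.span c hc
    rw [h.Q_eq] at hQb hQc
    have hb1 : b1 ≠ 0 := by rintro rfl; rw [zero_mul] at hQb; exact hv hQb.symm
    have hc1 : c1 ≠ 0 := by rintro rfl; rw [zero_mul] at hQc; exact hv hQc.symm
    obtain ⟨B, hB, hB'⟩ := exists_roots (F := F) 0 (b1 * b1)
    obtain ⟨C, hC, hC'⟩ := exists_roots (F := F) 0 (c1 * c1)
    obtain ⟨l, hl⟩ := exists_notMem ({0} ∪ (B ∪ C)) (lt_of_le_of_lt (Finset.card_union_le _ _) (by
      have := Finset.card_union_le B C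
      rw [Finset.card_singleton]
      omega))
    simp only [Finset.mem_union, Finset.mem_singleton, not_or] at hl
    obtain ⟨hl0, hlB, hlC⟩ := hl
    refine ⟨l • e + (v / l) • f, ⟨h.mem _ _, by rw [h.Q_eq]; field_simp⟩, ?_, ?_⟩
    · rw [h.polar_eq]
      intro h0
      apply hlB
      apply hB'
      have h1 : b2 * (l * l + 0 * l + b1 * b1) = 0 := by
        rw [← hQb] at h0
        field_simp at h0
        linear_combination h0
      rcases mul_eq_zero.1 h1 with h2 | h2
      · rw [h2, mul_zero] at hQb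
        exact absurd hQb.symm hv
      · exact h2
    · rw [h.polar_eq]
      intro h0
      apply hlC
      apply hC'
      have h1 : c2 * (l * l + 0 * l + c1 * c1) = 0 := by
        rw [← hQc] at h0
        field_simp at h0
        linear_combination h0
      rcases mul_eq_zero.1 h1 with h2 | h2
      · rw [h2, mul_zero] at hQc
        exact absurd hQc.symm hv
      · exact h2

/-- **An additive group containing a nonzero vector of a hyperbolic plane and closed under the
reflections of the plane contains the plane.** -/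
theorem mem_of_closed [Finite F] (hq : 7 ≤ Nat.card F) (h : HB Q W e f) (A : AddSubgroup V)
    (hA : ∀ c ∈ W, ∀ hc : Q c ≠ 0, ∀ y ∈ A, y ∈ W → refl Q c hc y ∈ A) {w : V} (hwA : w ∈ A)
    (hw : w ∈ W) (hw0 : w ≠ 0) {z : V} (hz : z ∈ W) : z ∈ A := by
  classical
  -- the action of the torus and the swap
  have hswap : ∀ x y : F, x • e + y • f ∈ A → (-y) • e + (-x) • f ∈ A := by
    intro x y hxy
    have hQ : Q ((1 : F) • e + (1 : F) • f) ≠ 0 := by
      rw [h.Q_eq, one_mul]; exact one_ne_zero
    have := hA _ (h.mem 1 1) hQ _ hxy (h.mem x y)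
    rw [h.refl_apply' one_ne_zero one_ne_zero] at this
    simpa using this
  have htor : ∀ l x y : F, l ≠ 0 → x • e + y • f ∈ A → (l * x) • e + (l⁻¹ * y) • f ∈ A := by
    intro l x y hl hxy
    have h1 := hswap x y hxy
    have hQ : Q (l • e + (1 : F) • f) ≠ 0 := by
      rw [h.Q_eq, mul_one]; exact hl
    have := hA _ (h.mem l 1) hQ _ h1 (h.mem _ _)
    rw [h.refl_apply' hl one_ne_zero] at this
    have e1 : (-(l / 1) * -x) • e + (-(1 / l) * -y) • f = (l * x) • e + (l⁻¹ * y) • f := by
      congr 2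
      · ring
      · field_simp
    rwa [e1] at this
  -- a singular vector
  obtain ⟨a, ha0, ha⟩ : ∃ a : F, a ≠ 0 ∧ a • e ∈ A := by
    obtain ⟨a, b, rfl⟩ := h.span w hw
    by_cases hb : b = 0
    · subst hb
      rw [zero_smul, add_zero] at hwA hw0
      exact ⟨a, fun h0 => hw0 (by rw [h0, zero_smul]), hwA⟩
    by_cases ha : a = 0
    · subst ha
      have := hswap 0 b hwA
      rw [neg_zero, zero_smul, add_zero] at this
      exact ⟨-b, neg_ne_zero.2 hb, this⟩
    obtain ⟨B, hB, hB'⟩ := exists_roots (F := F) 1 1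
    obtain ⟨u, hu⟩ := exists_notMem ({0, -1} ∪ B) (lt_of_le_of_lt (Finset.card_union_le _ _) (by
      have : ({0, -1} : Finset F).card ≤ 2 := Finset.card_le_two
      omega))
    simp only [Finset.mem_union, Finset.mem_insert, Finset.mem_singleton, not_or] at hu
    obtain ⟨⟨hu0, hu1⟩, huB⟩ := hu
    have hu1' : 1 + u ≠ 0 := fun h0 => hu1 (by linear_combination h0)
    have hu2 : u * u + 1 * u + 1 ≠ 0 := fun h0 => huB (hB' u h0)
    have h1 := htor u⁻¹ a b (inv_ne_zero hu0) hwA
    have h2 := htor (1 + u)⁻¹ a b (inv_ne_zero hu1') hwA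
    have h3 := A.sub_mem (A.add_mem hwA h1) h2
    have e1 : a • e + b • f + ((u⁻¹ * a) • e + (u⁻¹⁻¹ * b) • f) -
        (((1 + u)⁻¹ * a) • e + ((1 + u)⁻¹⁻¹ * b) • f) =
        (a * (u * u + 1 * u + 1) / (u * (1 + u))) • e := by
      rw [inv_inv, inv_inv]
      match_scalars
      · field_simp
        ring
      · ring
    rw [e1] at h3
    exact ⟨_, div_ne_zero (mul_ne_zero ha hu2) (mul_ne_zero hu0 hu1'), h3⟩
  have hall : ∀ c : F, c • e ∈ A := by
    intro c
    by_cases hc : c = 0
    · rw [hc, zero_smul]; exact A.zero_mem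
    have := htor (c * a⁻¹) a 0 (mul_ne_zero hc (inv_ne_zero ha0)) (by rwa [zero_smul, add_zero])
    rw [mul_zero, zero_smul, add_zero, mul_assoc, inv_mul_cancel₀ ha0, mul_one] at this
    exact this
  have hall' : ∀ c : F, c • f ∈ A := by
    intro c
    have := hswap (-c) 0 (by rw [zero_smul, add_zero]; exact hall _)
    rw [neg_zero, zero_smul, zero_add, neg_neg] at this
    exact this
  obtain ⟨a, b, rfl⟩ := h.span z hz
  exact A.add_mem (hall a) (hall' b)

/-- **The pair lemma** for nonsingular vectors of hyperbolic planes. -/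
theorem exists_pair_sing [Finite F] (hq : 7 ≤ Nat.card F) {e' f' : V} (h : HB Q W e f)
    (h' : HB Q W' e' f') {x x' : V} (hx : x ∈ W) (hQx : Q x ≠ 0) (hx' : x' ∈ W') (hQx' : Q x' ≠ 0) :
    ∃ c ∈ W, ∃ c' ∈ W', Q c ≠ 0 ∧ Q c' ≠ 0 ∧ polar Q c x = Q c ∧ polar Q c' x' = Q c' ∧
      Q c + Q c' = 0 := by
  classical
  obtain ⟨a, b, rfl⟩ := h.span x hx
  obtain ⟨a', b', rfl⟩ := h'.span x' hx'
  rw [h.Q_eq] at hQx
  rw [h'.Q_eq] at hQx'
  set n := a * b with hn
  set n' := a' * b' with hn'
  obtain ⟨B, hB, hB'⟩ := exists_roots (F := F) 0 (n' / n)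
  obtain ⟨m, hm⟩ := exists_notMem ({0, 1, -(n' / n)} ∪ B) (lt_of_le_of_lt (Finset.card_union_le _ _)
    (by
      have : ({0, 1, -(n' / n)} : Finset F).card ≤ 3 := Finset.card_le_three
      omega))
  simp only [Finset.mem_union, Finset.mem_insert, Finset.mem_singleton, not_or] at hm
  obtain ⟨⟨hm0, hm1, hm2⟩, hm3⟩ := hm
  have hd : n * m * m + n' ≠ 0 := by
    intro h0
    apply hm3
    apply hB'
    field_simp
    linear_combination h0
  have hnum : n * m + n' ≠ 0 := by
    intro h0
    apply hm2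
    field_simp
    linear_combination h0
  obtain ⟨v, hv'⟩ : ∃ v : F, v * (n * m * m + n') = n * m + n' :=
    ⟨(n * m + n') / (n * m * m + n'), div_mul_cancel₀ _ hd⟩
  have hv0 : v ≠ 0 := by
    rintro rfl
    rw [zero_mul] at hv'
    exact hnum hv'.symm
  have hv1 : 1 - v ≠ 0 := by
    intro h0
    have h1 : v = 1 := by linear_combination -h0
    rw [h1, one_mul] at hv'
    have h2 : n * (m * (m - 1)) = 0 := by linear_combination hv'
    have h3 := (mul_eq_zero.1 h2).resolve_left hQx
    rcases mul_eq_zero.1 h3 with h4 | h4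
    · exact hm0 h4
    · exact hm1 (by linear_combination h4)
  have hw0 : m * v ≠ 0 := mul_ne_zero hm0 hv0
  have hw1 : 1 - m * v ≠ 0 := by
    intro h0
    have h1 : m * v = 1 := by linear_combination -h0
    have h2 : n' * (m - 1) = 0 := by
      have : m * v * (n * m * m + n') = m * (n * m + n') := by rw [mul_assoc, hv']
      rw [h1] at this
      linear_combination -this
    have h3 := (mul_eq_zero.1 h2).resolve_left hQx'
    exact hm1 (by linear_combination h3)
  have ha : a ≠ 0 := left_ne_zero_of_mul hQx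
  have hb : b ≠ 0 := right_ne_zero_of_mul hQx
  have ha' : a' ≠ 0 := left_ne_zero_of_mul hQx'
  have hb' : b' ≠ 0 := right_ne_zero_of_mul hQx'
  have hkey : n * (m * (1 - m * v)) + n' * (1 - v) = 0 := by linear_combination -hv'
  refine ⟨(a / v) • e + (b / (1 - v)) • f, h.mem _ _,
    (a' / (m * v)) • e' + (b' / (1 - m * v)) • f', h'.mem _ _, ?_, ?_, ?_, ?_, ?_⟩
  · rw [h.Q_eq]
    exact mul_ne_zero (div_ne_zero ha hv0) (div_ne_zero hb hv1)
  · rw [h'.Q_eq]
    exact mul_ne_zero (div_ne_zero ha' hw0) (div_ne_zero hb' hw1)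
  · rw [h.Q_eq, h.polar_eq]
    field_simp
    ring
  · rw [h'.Q_eq, h'.polar_eq]
    field_simp
    ring
  · rw [h.Q_eq, h'.Q_eq]
    have e1 : a / v * (b / (1 - v)) = n / (v * (1 - v)) := by rw [hn]; field_simp
    have e2 : a' / (m * v) * (b' / (1 - m * v)) = n' / (m * v * (1 - m * v)) := by
      rw [hn']; field_simp
    rw [e1, e2, div_add_div _ _ (mul_ne_zero hv0 hv1) (mul_ne_zero hw0 hw1), div_eq_zero_iff]
    left
    linear_combination v * hkey

end HB

end Cfsg.Agent.H886.HypPl
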