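import Mathlib
import Cfsg.Prelude.Def_GeometricClasses
import Cfsg.Agent.H886.Local

/-!
Non-maximality of stabilisers of orthogonal decompositions over small fields: the list of all cases.
-/

set_option autoImplicit false
set_option linter.unusedSectionVars false
set_option linter.unusedSimpArgs false

namespace Cfsg.Agent.H886

open Matrix Cfsg.Geo QuadraticMap
open scoped MatrixGroups

theorem finrank_mdecomposition {ι : Type} [Fintype ι] [DecidableEq ι] {F : Type*} [Field F]
    {t k : ℕ} {D : Fin t → Submodule F (ι → F)} (hD : IsMDecomposition k D) :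
    t * k = Fintype.card ι := by
  classical
  have hint : DirectSum.IsInternal D :=
    DirectSum.isInternal_submodule_of_iSupIndep_of_iSup_eq_top hD.indep hD.iSup_eq_top
  have h1 := LinearEquiv.finrank_eq (LinearEquiv.ofBijective (DirectSum.coeLinearMap D) hint)
  rw [Module.finrank_directSum, Module.finrank_pi] at h1
  rw [← h1, Finset.sum_congr rfl (fun i _ => hD.finrank_eq i)]
  simp

variable {ι : Type} [Fintype ι] [DecidableEq ι] {F : Type*} [Field F] [Fintype F]

theorem three_facts (hF : Fintype.card F = 3) :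
    (3 : F) = 0 ∧ (2 : F) ≠ 0 ∧ ∀ x : F, x = 0 ∨ x = 1 ∨ x = -1 := by
  have h3 : (3 : F) = 0 := by
    have := FiniteField.cast_card_eq_zero F
    rw [hF] at this
    exact_mod_cast this
  refine ⟨h3, ?_, fun x => ?_⟩
  · intro h2
    exact one_ne_zero (α := F) (by linear_combination h3 - h2)
  · have := FiniteField.pow_card x
    rw [hF] at this
    have h : x * ((x - 1) * (x + 1)) = 0 := by linear_combination this
    rcases mul_eq_zero.1 h with h | h
    · exact Or.inl h
    · rcases mul_eq_zero.1 h with h | h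
      · exact Or.inr (Or.inl (by linear_combination h))
      · exact Or.inr (Or.inr (by linear_combination h))

theorem five_facts (hF : Fintype.card F = 5) :
    (5 : F) = 0 ∧ (2 : F) ≠ 0 ∧ ∀ x : F, x = 0 ∨ x = 1 ∨ x = -1 ∨ x = 2 ∨ x = -2 := by
  have h5 : (5 : F) = 0 := by
    have := FiniteField.cast_card_eq_zero F
    rw [hF] at this
    exact_mod_cast this
  refine ⟨h5, ?_, fun x => ?_⟩
  · intro h2
    exact one_ne_zero (α := F) (by linear_combination h5 - 2 * h2)
  · have := FiniteField.pow_card x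
    rw [hF] at this
    have h : x * ((x - 1) * ((x + 1) * ((x - 2) * (x + 2)))) = 0 := by
      linear_combination this - (x ^ 3 - x) * h5
    rcases mul_eq_zero.1 h with h | h
    · exact Or.inl h
    · rcases mul_eq_zero.1 h with h | h
      · exact Or.inr (Or.inl (by linear_combination h))
      · rcases mul_eq_zero.1 h with h | h
        · exact Or.inr (Or.inr (Or.inl (by linear_combination h)))
        · rcases mul_eq_zero.1 h with h | h
          · exact Or.inr (Or.inr (Or.inr (Or.inl (by linear_combination h))))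
          · exact Or.inr (Or.inr (Or.inr (Or.inr (by linear_combination h))))

theorem two_facts (hF : Fintype.card F = 2) :
    (2 : F) = 0 ∧ ∀ x : F, x = 0 ∨ x = 1 := by
  have h2 : (2 : F) = 0 := by
    have := FiniteField.cast_card_eq_zero F
    rw [hF] at this
    exact_mod_cast this
  refine ⟨h2, fun x => ?_⟩
  have := FiniteField.pow_card x
  rw [hF] at this
  have h : x * (x - 1) = 0 := by linear_combination this
  rcases mul_eq_zero.1 h with h | h
  · exact Or.inl h
  · exact Or.inr (by linear_combination h)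

theorem four_facts (hF : Fintype.card F = 4) :
    (2 : F) = 0 ∧ (∀ x : F, x ^ 4 = x) ∧ ∃ ω : F, ω ^ 2 = ω + 1 := by
  have h2 : (2 : F) = 0 := by
    have := FiniteField.cast_card_eq_zero F
    rw [hF] at this
    have h4 : (4 : F) = 0 := by exact_mod_cast this
    have : (2 : F) * 2 = 0 := by linear_combination h4
    rcases mul_eq_zero.1 this with h | h
    · exact h
    · exact h
  have h4 : ∀ x : F, x ^ 4 = x := by
    intro x
    have := FiniteField.pow_card x
    rwa [hF] at this
  refine ⟨h2, h4, ?_⟩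
  classical
  obtain ⟨x, hx⟩ : ∃ x : F, x ∉ ({0, 1} : Finset F) := by
    by_contra hcon
    push Not at hcon
    have h1 : (Finset.univ : Finset F).card ≤ ({0, 1} : Finset F).card :=
      Finset.card_le_card (fun x _ => hcon x)
    rw [Finset.card_univ, hF] at h1
    have h3 : ({0, 1} : Finset F).card ≤ 2 := Finset.card_le_two
    omega
  simp only [Finset.mem_insert, Finset.mem_singleton, not_or] at hx
  refine ⟨x, ?_⟩
  have h : x * ((x - 1) * (x ^ 2 + x + 1)) = 0 := by linear_combination h4 x
  rcases mul_eq_zero.1 h with h | h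
  · exact absurd h hx.1
  · rcases mul_eq_zero.1 h with h | h
    · exact absurd (by linear_combination h) hx.2
    · linear_combination h - (x + 1) * h2

theorem not_max_three_two (hF : Fintype.card F = 3) (hι : 13 ≤ Fintype.card ι)
    (Q : (ι → F) → F) (hQ : IsNondegenerateQuadraticForm Q) {t : ℕ}
    (D : Fin t → Submodule F (ι → F)) (hD : IsOrthogonalMDecomposition Q 2 D) :
    ∃ K : Subgroup (GL ι F), decompositionStabilizer D ⊓ omegaGL Q < K ∧ K < omegaGL Q := by
  obtain ⟨h3, h2, hall⟩ := three_facts hF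
  have htk := finrank_mdecomposition hD.decomp.decomp
  have ht : 5 ≤ t := by omega
  let i0 : Fin t := ⟨0, by omega⟩
  obtain ⟨w, hw, hQw, horth, hspan⟩ := exists_orth_basis Q hQ h2 (D i0)
    (hD.decomp.nondegenerate i0) (hD.decomp.decomp.finrank_eq i0)
  obtain ⟨v, hv, hQv, hpv, hspanv⟩ := transfer Q hD i0 w hw hspan
  have hcalc : ∀ i (c : Fin 2 → F), Q (∑ a, c a • v i a) =
      (c 0) ^ 2 * Q (w 0) + (c 1) ^ 2 * Q (w 1) := by
    intro i c
    rw [Fin.sum_univ_two, q_add Q hQ, hQ.smul, hQ.smul, pl_smul_left Q hQ, pl_smul_right Q hQ, hpv,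
      horth 0 1 (by decide), hQv, hQv]
    ring
  have hone : (1 : F) ≠ 0 := one_ne_zero
  have hn1 : (-1 : F) ≠ 1 := fun h => h2 (by linear_combination - h)
  have hframe : ∀ c : F, c ≠ 0 → Q (w 0) = c → Q (w 1) = c →
      ∃ K : Subgroup (GL ι F), decompositionStabilizer D ⊓ omegaGL Q < K ∧ K < omegaGL Q := by
    intro c hc h0 h1
    have hwc : ∀ a, Q (w a) = c := by
      intro a; fin_cases a
      · exact h0
      · exact h1
    refine frame_case Q hQ h2 D hD ht le_rfl c hc v hv (fun i a => by rw [hQv, hwc])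
      (fun i a b hab => by rw [hpv, horth a b hab]) ?_
    intro i x hx hxc
    obtain ⟨d, rfl⟩ := hspanv i x hx
    rw [hcalc, h0, h1] at hxc
    have hxc' : d 0 ^ 2 + d 1 ^ 2 = 1 := by
      apply mul_right_cancel₀ hc
      linear_combination hxc
    rw [Fin.sum_univ_two]
    rcases hall (d 0) with e0 | e0 | e0 <;> rcases hall (d 1) with e1 | e1 | e1 <;>
      rw [e0, e1] at hxc' ⊢
    · exfalso; apply hone; linear_combination - hxc'
    · exact ⟨1, Or.inl (by simp)⟩
    · exact ⟨1, Or.inr (by simp)⟩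
    · exact ⟨0, Or.inl (by simp)⟩
    · exfalso; apply hone; linear_combination hxc'
    · exfalso; apply hone; linear_combination hxc'
    · exact ⟨0, Or.inr (by simp)⟩
    · exfalso; apply hone; linear_combination hxc'
    · exfalso; apply hone; linear_combination hxc'
  have hsplit : ∀ (a b : Fin 2), a ≠ b → Q (w a) = 1 → Q (w b) = -1 →
      ∃ K : Subgroup (GL ι F), decompositionStabilizer D ⊓ omegaGL Q < K ∧ K < omegaGL Q := by
    intro a b hab ha hb
    refine split_case Q hQ h3 D hD ht (fun i => v i a) (fun i => v i b) (fun i => hv i a)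
      (fun i => hv i b) (fun i => by rw [hQv, ha]) (fun i => by rw [hQv, hb])
      (fun i => by rw [hpv, horth a b hab]) ?_
    intro i x hx hxc
    obtain ⟨d, rfl⟩ := hspanv i x hx
    have hsum : ∑ c, d c • v i c = d a • v i a + d b • v i b := by
      rw [Fin.sum_univ_two]
      fin_cases a <;> fin_cases b
      · exact absurd rfl hab
      · rfl
      · exact add_comm _ _
      · exact absurd rfl hab
    rw [hsum, q_add Q hQ, hQ.smul, hQ.smul, pl_smul_left Q hQ, pl_smul_right Q hQ, hpv,
      horth a b hab, hQv, hQv, ha, hb] at hxc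
    rw [hsum]
    rcases hall (d a) with e0 | e0 | e0 <;> rcases hall (d b) with e1 | e1 | e1 <;>
      rw [e0, e1] at hxc ⊢
    · exfalso; apply hone; linear_combination - hxc
    · exfalso; apply hn1; linear_combination hxc
    · exfalso; apply hn1; linear_combination hxc
    · exact Or.inl (by simp)
    · exfalso; apply hone; linear_combination - hxc
    · exfalso; apply hone; linear_combination - hxc
    · exact Or.inr (by simp)
    · exfalso; apply hone; linear_combination - hxc
    · exfalso; apply hone; linear_combination - hxc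
  rcases hall (Q (w 0)) with h0 | h0 | h0
  · exact absurd h0 (hQw 0)
  · rcases hall (Q (w 1)) with h1 | h1 | h1
    · exact absurd h1 (hQw 1)
    · exact hframe 1 hone h0 h1
    · exact hsplit 0 1 (by decide) h0 h1
  · rcases hall (Q (w 1)) with h1 | h1 | h1
    · exact absurd h1 (hQw 1)
    · exact hsplit 1 0 (by decide) h1 h0
    · exact hframe (-1) (neg_ne_zero.2 hone) h0 h1

theorem not_max_three_three (hF : Fintype.card F = 3) (hι : 13 ≤ Fintype.card ι)
    (Q : (ι → F) → F) (hQ : IsNondegenerateQuadraticForm Q) {t : ℕ}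
    (D : Fin t → Submodule F (ι → F)) (hD : IsOrthogonalMDecomposition Q 3 D) :
    ∃ K : Subgroup (GL ι F), decompositionStabilizer D ⊓ omegaGL Q < K ∧ K < omegaGL Q := by
  obtain ⟨h3, h2, hall⟩ := three_facts hF
  have htk := finrank_mdecomposition hD.decomp.decomp
  have ht : 5 ≤ t := by omega
  let i0 : Fin t := ⟨0, by omega⟩
  have hone : (1 : F) ≠ 0 := one_ne_zero
  -- an orthogonal basis with constant values
  obtain ⟨w', hw', hQw', horth', hspan'⟩ := exists_orth_basis Q hQ h2 (D i0)
    (hD.decomp.nondegenerate i0) (hD.decomp.decomp.finrank_eq i0)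
  have hconst : ∃ (c : F) (w : Fin 3 → (ι → F)), c ≠ 0 ∧ (∀ a, w a ∈ D i0) ∧
      (∀ a, Q (w a) = c) ∧ (∀ a b, a ≠ b → polar Q (w a) (w b) = 0) ∧
      (∀ x ∈ D i0, ∃ c : Fin 3 → F, x = ∑ a, c a • w a) := by
    -- replace two vectors with equal values by their sum and difference
    have hmix : ∀ (c : F) (x y z : ι → F), c ≠ 0 → x ∈ D i0 → y ∈ D i0 → z ∈ D i0 →
        Q x = c → Q y = c → Q z = -c → polar Q x y = 0 → polar Q x z = 0 → polar Q y z = 0 →
        (∀ u ∈ D i0, ∃ p q r : F, u = p • x + q • y + r • z) →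
        ∃ (c : F) (w : Fin 3 → (ι → F)), c ≠ 0 ∧ (∀ a, w a ∈ D i0) ∧
        (∀ a, Q (w a) = c) ∧ (∀ a b, a ≠ b → polar Q (w a) (w b) = 0) ∧
        (∀ x ∈ D i0, ∃ c : Fin 3 → F, x = ∑ a, c a • w a) := by
      intro c x y z hc hx hy hz hQx hQy hQz hxy hxz hyz hsp
      have hyx : polar Q y x = 0 := by rw [polar_comm]; exact hxy
      have hzx : polar Q z x = 0 := by rw [polar_comm]; exact hxz
      have hzy : polar Q z y = 0 := by rw [polar_comm]; exact hyz
      refine ⟨-c, ![x + y, x - y, z], neg_ne_zero.2 hc, ?_, ?_, ?_, ?_⟩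
      · intro a; fin_cases a
        · exact (D i0).add_mem hx hy
        · exact (D i0).sub_mem hx hy
        · exact hz
      · intro a; fin_cases a
        · change Q (x + y) = -c
          rw [q_add Q hQ, hQx, hQy, hxy]; linear_combination c * h3
        · change Q (x - y) = -c
          rw [q_sub Q hQ, hQx, hQy, hxy]; linear_combination c * h3
        · exact hQz
      · intro a b hab
        fin_cases a <;> fin_cases b <;> first
          | exact absurd rfl hab
          | (simp [pl_add_left Q hQ, pl_add_right Q hQ, pl_sub_left Q hQ, pl_sub_right Q hQ, hxy,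
              hyx, hxz, hzx, hyz, hzy, pl_self Q hQ, hQx, hQy])
      · intro u hu
        obtain ⟨p, q, r, rfl⟩ := hsp u hu
        refine ⟨![-(p + q), -(p - q), r], ?_⟩
        rw [Fin.sum_univ_three]
        simp only [Matrix.cons_val_zero, Matrix.cons_val_one, Matrix.cons_val_two,
          Matrix.head_cons, Matrix.tail_cons, Matrix.cons_val]
        have e1 : -(p + q) • (x + y) + -(p - q) • (x - y) = (-2 * p) • x + (-2 * q) • y := by
          module
        have e2 : (-2 : F) = 1 := by linear_combination - h3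
        rw [e1, e2, one_mul, one_mul]
    have hsp3 : ∀ u ∈ D i0, ∃ p q r : F, u = p • w' 0 + q • w' 1 + r • w' 2 := by
      intro u hu
      obtain ⟨c, hc⟩ := hspan' u hu
      exact ⟨c 0, c 1, c 2, by rw [hc, Fin.sum_univ_three]⟩
    have o01 := horth' 0 1 (by decide)
    have o02 := horth' 0 2 (by decide)
    have o12 := horth' 1 2 (by decide)
    have o10 := horth' 1 0 (by decide)
    have o20 := horth' 2 0 (by decide)
    have o21 := horth' 2 1 (by decide)
    have hval : ∀ a b, Q (w' a) = Q (w' b) ∨ Q (w' a) = - Q (w' b) := by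
      intro a b
      rcases hall (Q (w' a)) with h | h | h
      · exact absurd h (hQw' a)
      · rcases hall (Q (w' b)) with h' | h' | h'
        · exact absurd h' (hQw' b)
        · left; rw [h, h']
        · right; rw [h, h', neg_neg]
      · rcases hall (Q (w' b)) with h' | h' | h'
        · exact absurd h' (hQw' b)
        · right; rw [h, h']
        · left; rw [h, h']
    rcases hval 1 0 with h10 | h10
    · rcases hval 2 0 with h20 | h20
      · refine ⟨Q (w' 0), w', hQw' 0, hw', ?_, horth', hspan'⟩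
        intro a; fin_cases a
        · rfl
        · exact h10
        · exact h20
      · exact hmix _ (w' 0) (w' 1) (w' 2) (hQw' 0) (hw' _) (hw' _) (hw' _) rfl h10 h20 o01 o02 o12
          hsp3
    · rcases hval 2 0 with h20 | h20
      · refine hmix _ (w' 0) (w' 2) (w' 1) (hQw' 0) (hw' _) (hw' _) (hw' _) rfl h20 h10 o02 o01 o21
          ?_
        intro u hu
        obtain ⟨p, q, r, h⟩ := hsp3 u hu
        exact ⟨p, r, q, by rw [h]; abel⟩
      · refine hmix _ (w' 1) (w' 2) (w' 0) (hQw' 1) (hw' _) (hw' _) (hw' _) rfl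
          (by rw [h20, h10]) (by rw [h10, neg_neg]) o12 o10 o20 ?_
        intro u hu
        obtain ⟨p, q, r, h⟩ := hsp3 u hu
        exact ⟨q, r, p, by rw [h]; abel⟩
  obtain ⟨c, w, hc, hw, hQw, horth, hspan⟩ := hconst
  obtain ⟨v, hv, hQv, hpv, hspanv⟩ := transfer Q hD i0 w hw hspan
  refine frame_case Q hQ h2 D hD ht (by norm_num) c hc v hv (fun i a => by rw [hQv, hQw])
    (fun i a b hab => by rw [hpv, horth a b hab]) ?_
  intro i x hx hxc
  obtain ⟨d, rfl⟩ := hspanv i x hx
  rw [Fin.sum_univ_three] at hxc ⊢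
  have o01 := horth 0 1 (by decide)
  have o02 := horth 0 2 (by decide)
  have o12 := horth 1 2 (by decide)
  rw [q_add Q hQ, q_add Q hQ, hQ.smul, hQ.smul, hQ.smul, hQv, hQv, hQv, hQw, hQw, hQw] at hxc
  simp only [pl_add_left Q hQ, pl_smul_left Q hQ, pl_smul_right Q hQ, hpv, o01, o02, o12] at hxc
  have hxc' : d 0 ^ 2 + d 1 ^ 2 + d 2 ^ 2 = 1 := by
    apply mul_right_cancel₀ hc
    linear_combination hxc
  rcases hall (d 0) with e0 | e0 | e0 <;> rcases hall (d 1) with e1 | e1 | e1 <;>
    rcases hall (d 2) with e2 | e2 | e2 <;> rw [e0, e1, e2] at hxc' ⊢ <;> first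
      | (exfalso; apply hone; linear_combination - hxc'; done)
      | (exfalso; apply hone; linear_combination hxc'; done)
      | (exfalso; apply hone; linear_combination - hxc' + h3; done)
      | (refine ⟨0, Or.inl ?_⟩; simp; done)
      | (refine ⟨0, Or.inr ?_⟩; simp; done)
      | (refine ⟨1, Or.inl ?_⟩; simp; done)
      | (refine ⟨1, Or.inr ?_⟩; simp; done)
      | (refine ⟨2, Or.inl ?_⟩; simp; done)
      | (refine ⟨2, Or.inr ?_⟩; simp; done)

theorem not_max_five (hF : Fintype.card F = 5) (hι : 13 ≤ Fintype.card ι)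
    (Q : (ι → F) → F) (hQ : IsNondegenerateQuadraticForm Q) {t : ℕ}
    (D : Fin t → Submodule F (ι → F)) (hD : IsOrthogonalMDecomposition Q 2 D)
    (hplus : ∀ i, IsPlusTypeOn Q (D i)) :
    ∃ K : Subgroup (GL ι F), decompositionStabilizer D ⊓ omegaGL Q < K ∧ K < omegaGL Q := by
  obtain ⟨h5, h2, hall⟩ := five_facts hF
  have htk := finrank_mdecomposition hD.decomp.decomp
  have ht : 5 ≤ t := by omega
  let i0 : Fin t := ⟨0, by omega⟩
  have hone : (1 : F) ≠ 0 := one_ne_zero
  obtain ⟨e, he, f, hf, hQe, hQf, hef⟩ := plus_two Q hQ (D i0) (hD.decomp.nondegenerate i0)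
    (hD.decomp.decomp.finrank_eq i0) (hplus i0)
  have hfe : polar Q f e = 1 := by rw [polar_comm]; exact hef
  have hee : polar Q e e = 0 := by rw [pl_self Q hQ, hQe, mul_zero]
  have hff : polar Q f f = 0 := by rw [pl_self Q hQ, hQf, mul_zero]
  have hspan0 := span_of_dual Q hQ (D i0) (hD.decomp.decomp.finrank_eq i0) ![e, f] ![f, e]
    (by intro a; fin_cases a
        · exact he
        · exact hf)
    (by intro a b; fin_cases a <;> fin_cases b <;> simp [hef, hfe, hee, hff])
  -- the frame `e + f`, `2 e + 3 f`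
  set w : Fin 2 → (ι → F) := ![e + f, (2 : F) • e + (3 : F) • f] with hwdef
  have hw0 : w 0 = e + f := rfl
  have hw1 : w 1 = (2 : F) • e + (3 : F) • f := rfl
  have hw : ∀ a, w a ∈ D i0 := by
    intro a; fin_cases a
    · exact (D i0).add_mem he hf
    · exact (D i0).add_mem ((D i0).smul_mem _ he) ((D i0).smul_mem _ hf)
  have hQw : ∀ a, Q (w a) = 1 := by
    intro a; fin_cases a
    · change Q (w 0) = 1
      rw [hw0, q_add Q hQ, hQe, hQf, hef]; ring
    · change Q (w 1) = 1
      rw [hw1, q_add Q hQ, hQ.smul, hQ.smul, hQe, hQf, pl_smul_left Q hQ, pl_smul_right Q hQ, hef]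
      linear_combination h5
  have o01 : polar Q (w 0) (w 1) = 0 := by
    rw [hw0, hw1]
    simp only [pl_add_left Q hQ, pl_add_right Q hQ, pl_smul_right Q hQ, hef, hfe, hee, hff]
    linear_combination h5
  have horth : ∀ a b, a ≠ b → polar Q (w a) (w b) = 0 := by
    intro a b hab
    fin_cases a <;> fin_cases b
    · exact absurd rfl hab
    · exact o01
    · change polar Q (w 1) (w 0) = 0
      rw [polar_comm]; exact o01
    · exact absurd rfl hab
  have hspan : ∀ x ∈ D i0, ∃ c : Fin 2 → F, x = ∑ a, c a • w a := by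
    intro x hx
    obtain ⟨c, hc⟩ := hspan0 x hx
    refine ⟨![3 * c 0 - 2 * c 1, c 1 - c 0], ?_⟩
    rw [hc, Fin.sum_univ_two, Fin.sum_univ_two, hw0, hw1]
    simp only [Matrix.cons_val_zero, Matrix.cons_val_one, Matrix.cons_val]
    module
  obtain ⟨v, hv, hQv, hpv, hspanv⟩ := transfer Q hD i0 w hw hspan
  refine frame_case Q hQ h2 D hD ht le_rfl 1 hone v hv (fun i a => by rw [hQv, hQw])
    (fun i a b hab => by rw [hpv, horth a b hab]) ?_
  intro i x hx hxc
  obtain ⟨d, rfl⟩ := hspanv i x hx
  rw [Fin.sum_univ_two, q_add Q hQ, hQ.smul, hQ.smul, pl_smul_left Q hQ, pl_smul_right Q hQ, hpv,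
    o01, hQv, hQv, hQw, hQw] at hxc
  rw [Fin.sum_univ_two]
  rcases hall (d 0) with e0 | e0 | e0 | e0 | e0 <;>
    rcases hall (d 1) with e1 | e1 | e1 | e1 | e1 <;> rw [e0, e1] at hxc ⊢ <;> first
      | (exfalso; apply hone; linear_combination - hxc; done)
      | (exfalso; apply hone; linear_combination hxc; done)
      | (exfalso; apply hone; linear_combination 2 * hxc - h5; done)
      | (exfalso; apply hone; linear_combination - hxc + h5; done)
      | (exfalso; apply hone; linear_combination - 2 * hxc + h5; done)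
      | (exfalso; apply hone; linear_combination 2 * hxc - 2 * h5; done)
      | (exfalso; apply hone; linear_combination 2 * hxc - 3 * h5; done)
      | (exfalso; apply hone; linear_combination 3 * hxc - 4 * h5; done)
      | (exfalso; apply hone; linear_combination - 2 * hxc + 3 * h5; done)
      | (exfalso; apply hone; linear_combination 3 * hxc - 2 * h5; done)
      | (exfalso; apply hone; linear_combination - hxc + 2 * h5; done)
      | (exfalso; apply hone; linear_combination - 2 * hxc + 2 * h5; done)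
      | (refine ⟨0, Or.inl ?_⟩; simp; done)
      | (refine ⟨0, Or.inr ?_⟩; simp; done)
      | (refine ⟨1, Or.inl ?_⟩; simp; done)
      | (refine ⟨1, Or.inr ?_⟩; simp; done)

theorem not_max_two_two (hF : Fintype.card F = 2) (hι : 13 ≤ Fintype.card ι)
    (Q : (ι → F) → F) (hQ : IsNondegenerateQuadraticForm Q) {t : ℕ}
    (D : Fin t → Submodule F (ι → F)) (hD : IsOrthogonalMDecomposition Q 2 D)
    (hplus : ∀ i, IsPlusTypeOn Q (D i)) :
    ∃ K : Subgroup (GL ι F), decompositionStabilizer D ⊓ omegaGL Q < K ∧ K < omegaGL Q := by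
  obtain ⟨h2, hall⟩ := two_facts hF
  have htk := finrank_mdecomposition hD.decomp.decomp
  have ht : 5 ≤ t := by omega
  let i0 : Fin t := ⟨0, by omega⟩
  have hone : (1 : F) ≠ 0 := one_ne_zero
  obtain ⟨e, he, f, hf, hQe, hQf, hef⟩ := plus_two Q hQ (D i0) (hD.decomp.nondegenerate i0)
    (hD.decomp.decomp.finrank_eq i0) (hplus i0)
  have hfe : polar Q f e = 1 := by rw [polar_comm]; exact hef
  have hee : polar Q e e = 0 := by rw [pl_self Q hQ, hQe, mul_zero]
  have hff : polar Q f f = 0 := by rw [pl_self Q hQ, hQf, mul_zero]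
  have hw : ∀ a, (![e, f] : Fin 2 → (ι → F)) a ∈ D i0 := by
    intro a; fin_cases a
    · exact he
    · exact hf
  have hspan0 := span_of_dual Q hQ (D i0) (hD.decomp.decomp.finrank_eq i0) ![e, f] ![f, e] hw
    (by intro a b; fin_cases a <;> fin_cases b <;> simp [hef, hfe, hee, hff])
  obtain ⟨v, hv, hQv, hpv, hspanv⟩ := transfer Q hD i0 ![e, f] hw hspan0
  refine two_case Q hQ h2 D hD ht (fun i => v i 0) (fun i => v i 1) (fun i => hv i 0)
    (fun i => hv i 1) (fun i => by rw [hQv]; exact hQe) (fun i => by rw [hQv]; exact hQf)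
    (fun i => by rw [hpv]; exact hef) ?_
  intro i x hx hxc
  obtain ⟨d, rfl⟩ := hspanv i x hx
  have q0 : Q (v i 0) = 0 := by rw [hQv]; exact hQe
  have q1 : Q (v i 1) = 0 := by rw [hQv]; exact hQf
  have p01 : polar Q (v i 0) (v i 1) = 1 := by rw [hpv]; exact hef
  rw [Fin.sum_univ_two, q_add Q hQ, hQ.smul, hQ.smul, pl_smul_left Q hQ, pl_smul_right Q hQ,
    q0, q1, p01] at hxc
  rw [Fin.sum_univ_two]
  rcases hall (d 0) with e0 | e0 <;> rcases hall (d 1) with e1 | e1 <;> rw [e0, e1] at hxc ⊢
  · exfalso; apply hone; linear_combination - hxc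
  · exfalso; apply hone; linear_combination - hxc
  · exfalso; apply hone; linear_combination - hxc
  · simp

theorem not_max_two_four (hF : Fintype.card F = 4) (hι : 13 ≤ Fintype.card ι)
    (Q : (ι → F) → F) (hQ : IsNondegenerateQuadraticForm Q) {t : ℕ}
    (D : Fin t → Submodule F (ι → F)) (hD : IsOrthogonalMDecomposition Q 2 D)
    (hplus : ∀ i, IsPlusTypeOn Q (D i)) :
    ∃ K : Subgroup (GL ι F), decompositionStabilizer D ⊓ omegaGL Q < K ∧ K < omegaGL Q := by
  obtain ⟨h2, h4, ω, hω⟩ := four_facts hF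
  have htk := finrank_mdecomposition hD.decomp.decomp
  have ht : 5 ≤ t := by omega
  let i0 : Fin t := ⟨0, by omega⟩
  obtain ⟨e, he, f, hf, hQe, hQf, hef⟩ := plus_two Q hQ (D i0) (hD.decomp.nondegenerate i0)
    (hD.decomp.decomp.finrank_eq i0) (hplus i0)
  have hfe : polar Q f e = 1 := by rw [polar_comm]; exact hef
  have hee : polar Q e e = 0 := by rw [pl_self Q hQ, hQe, mul_zero]
  have hff : polar Q f f = 0 := by rw [pl_self Q hQ, hQf, mul_zero]
  have hw : ∀ a, (![e, f] : Fin 2 → (ι → F)) a ∈ D i0 := by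
    intro a; fin_cases a
    · exact he
    · exact hf
  have hspan0 := span_of_dual Q hQ (D i0) (hD.decomp.decomp.finrank_eq i0) ![e, f] ![f, e] hw
    (by intro a b; fin_cases a <;> fin_cases b <;> simp [hef, hfe, hee, hff])
  obtain ⟨v, hv, hQv, hpv, hspanv⟩ := transfer Q hD i0 ![e, f] hw hspan0
  refine four_case Q hQ h2 h4 ω hω D hD ht (fun i => v i 0) (fun i => v i 1) (fun i => hv i 0)
    (fun i => hv i 1) (fun i => by rw [hQv]; exact hQe) (fun i => by rw [hQv]; exact hQf)
    (fun i => by rw [hpv]; exact hef) ?_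
  intro i x hx
  obtain ⟨d, rfl⟩ := hspanv i x hx
  exact ⟨d 0, d 1, by rw [Fin.sum_univ_two]⟩

theorem not_max_four_two (hF : Fintype.card F = 2) (hι : 13 ≤ Fintype.card ι)
    (Q : (ι → F) → F) (hQ : IsNondegenerateQuadraticForm Q) {t : ℕ}
    (D : Fin t → Submodule F (ι → F)) (hD : IsOrthogonalMDecomposition Q 4 D)
    (hplus : ∀ i, IsPlusTypeOn Q (D i)) :
    ∃ K : Subgroup (GL ι F), decompositionStabilizer D ⊓ omegaGL Q < K ∧ K < omegaGL Q := by
  obtain ⟨h2, hall⟩ := two_facts hF
  have htk := finrank_mdecomposition hD.decomp.decomp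
  have ht : 4 ≤ t := by omega
  let i0 : Fin t := ⟨0, by omega⟩
  obtain ⟨e, he, f, hf, e', he', f', hf', hQe, hQf, hQe', hQf', hef, hef', hee', hef'', hfe',
    hff'⟩ := plus_four Q hQ (D i0) (hD.decomp.nondegenerate i0)
    (hD.decomp.decomp.finrank_eq i0) (hplus i0)
  have s1 : polar Q f e = 1 := by rw [polar_comm]; exact hef
  have s2 : polar Q f' e' = 1 := by rw [polar_comm]; exact hef'
  have s3 : polar Q e' e = 0 := by rw [polar_comm]; exact hee'
  have s4 : polar Q f' e = 0 := by rw [polar_comm]; exact hef''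
  have s5 : polar Q e' f = 0 := by rw [polar_comm]; exact hfe'
  have s6 : polar Q f' f = 0 := by rw [polar_comm]; exact hff'
  have t1 : polar Q e e = 0 := by rw [pl_self Q hQ, hQe, mul_zero]
  have t2 : polar Q f f = 0 := by rw [pl_self Q hQ, hQf, mul_zero]
  have t3 : polar Q e' e' = 0 := by rw [pl_self Q hQ, hQe', mul_zero]
  have t4 : polar Q f' f' = 0 := by rw [pl_self Q hQ, hQf', mul_zero]
  -- the two anisotropic planes
  obtain ⟨a, haD, ha⟩ : ∃ a ∈ D i0, a = e + f := ⟨_, (D i0).add_mem he hf, rfl⟩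
  obtain ⟨b, hbD, hb⟩ : ∃ b ∈ D i0, b = e + e' + f' :=
    ⟨_, (D i0).add_mem ((D i0).add_mem he he') hf', rfl⟩
  obtain ⟨a', ha'D, ha'⟩ : ∃ a' ∈ D i0, a' = e' + f' := ⟨_, (D i0).add_mem he' hf', rfl⟩
  obtain ⟨b', hb'D, hb'⟩ : ∃ b' ∈ D i0, b' = e' + e + f :=
    ⟨_, (D i0).add_mem ((D i0).add_mem he' he) hf, rfl⟩
  have Qa : Q a = 1 := by rw [ha, q_add Q hQ, hQe, hQf, hef]; ring
  have Qa' : Q a' = 1 := by rw [ha', q_add Q hQ, hQe', hQf', hef']; ring
  have Qb : Q b = 1 := by
    rw [hb, q_add Q hQ, q_add Q hQ, hQe, hQe', hQf', pl_add_left Q hQ, hee', hef', hef'']; ring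
  have Qb' : Q b' = 1 := by
    rw [hb', q_add Q hQ, q_add Q hQ, hQe, hQe', hQf, pl_add_left Q hQ, s3, hef, s5]; ring
  have Pab : polar Q a b = 1 := by
    rw [ha, hb]
    simp only [pl_add_left Q hQ, pl_add_right Q hQ, hef, hef', hee', hef'', hfe', hff', s1, s2, s3,
      s4, s5, s6, t1, t2, t3, t4]
    ring
  have Pa'b' : polar Q a' b' = 1 := by
    rw [ha', hb']
    simp only [pl_add_left Q hQ, pl_add_right Q hQ, hef, hef', hee', hef'', hfe', hff', s1, s2, s3,
      s4, s5, s6, t1, t2, t3, t4]
    ring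
  have Paa' : polar Q a a' = 0 := by
    rw [ha, ha']
    simp only [pl_add_left Q hQ, pl_add_right Q hQ, hef, hef', hee', hef'', hfe', hff', s1, s2, s3,
      s4, s5, s6, t1, t2, t3, t4]
    ring
  have Pab' : polar Q a b' = 0 := by
    rw [ha, hb']
    simp only [pl_add_left Q hQ, pl_add_right Q hQ, hef, hef', hee', hef'', hfe', hff', s1, s2, s3,
      s4, s5, s6, t1, t2, t3, t4]
    linear_combination h2
  have Pba' : polar Q b a' = 0 := by
    rw [hb, ha']
    simp only [pl_add_left Q hQ, pl_add_right Q hQ, hef, hef', hee', hef'', hfe', hff', s1, s2, s3,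
      s4, s5, s6, t1, t2, t3, t4]
    linear_combination h2
  have Pbb' : polar Q b b' = 0 := by
    rw [hb, hb']
    simp only [pl_add_left Q hQ, pl_add_right Q hQ, hef, hef', hee', hef'', hfe', hff', s1, s2, s3,
      s4, s5, s6, t1, t2, t3, t4]
    linear_combination h2
  have u1 : polar Q b a = 1 := by rw [polar_comm]; exact Pab
  have u2 : polar Q b' a' = 1 := by rw [polar_comm]; exact Pa'b'
  have u3 : polar Q a' a = 0 := by rw [polar_comm]; exact Paa'
  have u4 : polar Q b' a = 0 := by rw [polar_comm]; exact Pab'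
  have u5 : polar Q a' b = 0 := by rw [polar_comm]; exact Pba'
  have u6 : polar Q b' b = 0 := by rw [polar_comm]; exact Pbb'
  have r1 : polar Q a a = 0 := by rw [pl_self Q hQ, h2, zero_mul]
  have r2 : polar Q b b = 0 := by rw [pl_self Q hQ, h2, zero_mul]
  have r3 : polar Q a' a' = 0 := by rw [pl_self Q hQ, h2, zero_mul]
  have r4 : polar Q b' b' = 0 := by rw [pl_self Q hQ, h2, zero_mul]
  have hw : ∀ c, (![a, b, a', b'] : Fin 4 → (ι → F)) c ∈ D i0 := by
    intro c; fin_cases c
    · exact haD
    · exact hbD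
    · exact ha'D
    · exact hb'D
  have hspan0 := span_of_dual Q hQ (D i0) (hD.decomp.decomp.finrank_eq i0) ![a, b, a', b']
    ![b, a, b', a'] hw
    (by intro c d; fin_cases c <;> fin_cases d <;>
          simp [Pab, Pa'b', Paa', Pab', Pba', Pbb', u1, u2, u3, u4, u5, u6, r1, r2, r3, r4])
  obtain ⟨v, hv, hQv, hpv, hspanv⟩ := transfer Q hD i0 ![a, b, a', b'] hw hspan0
  refine four_two_case Q hQ hall (by omega) D hD ht (fun i => v i 0) (fun i => v i 1)
    (fun i => v i 2) (fun i => v i 3) (fun i => hv i _) (fun i => hv i _) (fun i => hv i _)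
    (fun i => hv i _) (fun i => by rw [hQv]; exact Qa) (fun i => by rw [hQv]; exact Qb)
    (fun i => by rw [hQv]; exact Qa') (fun i => by rw [hQv]; exact Qb')
    (fun i => by rw [hpv]; exact Pab) (fun i => by rw [hpv]; exact Pa'b')
    (fun i => by rw [hpv]; exact Paa') (fun i => by rw [hpv]; exact Pab')
    (fun i => by rw [hpv]; exact Pba') (fun i => by rw [hpv]; exact Pbb') ?_
  intro i x hx
  obtain ⟨d, rfl⟩ := hspanv i x hx
  exact ⟨d 0, d 1, d 2, d 3, by rw [Fin.sum_univ_four]⟩

end Cfsg.Agent.H886
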