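import Cfsg.Prelude.Def_GeometricClasses
import Cfsg.Agent.H884.SingMaxPlus
import Cfsg.Agent.H884.ExtGL
import Cfsg.Agent.H885.NondegGeo
import Cfsg.Agent.H885.NonsingVec
import Cfsg.Agent.H885.C2Main
import Cfsg.Agent.H885.HypMain
import Cfsg.Agent.H886.PlaneMax
import Cfsg.Agent.H887.TSMax
import Cfsg.Agent.H887.TenSp.Wrap
import Cfsg.Agent.H888.SubfieldMax
import Cfsg.Agent.H926.HermLow
import Cfsg.Agent.H928.FrameO

/-!
# Parts of the list of geometric maximal subgroups of `Ω₁₂⁺(q)` (helper886)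
-/

set_option autoImplicit false
open Cfsg

namespace Cfsg.Agent.H886.Om12

open Cfsg.Geo

variable {F : Type*} [Field F] [Fintype F] {Q : (Fin 12 → F) → F}

theorem part1 (hQ : IsNondegenerateQuadraticForm Q) (W : Submodule F (Fin 12 → F)) (hW0 : W ≠ ⊥)
    (hW : IsTotallySingularQuad Q W) (hdim : Module.finrank F W ≠ 5) :
    IsMaximalIn (omegaGL Q) (subspaceStabilizer W ⊓ omegaGL Q) := by
  refine Cfsg.Agent.H884.OmegaGL.singular_stabilizer_isMaximalIn Q hQ (by rw [Fintype.card_fin]; omega)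
    hW0 hW ?_
  rintro ⟨x, hx, hxW, hxn⟩
  rw [Fintype.card_fin]
  have hnd := Cfsg.Agent.H884.OmegaGL.nondeg_bundle Q hQ
  have h1 := Cfsg.Agent.H884.SingMaxPlus.two_mul_finrank_le hnd
    (Cfsg.Agent.H884.SingMaxPlus.sup_span_singular (Q := Cfsg.Agent.H884.OmegaGL.bundle Q hQ) hW hx hxW)
  rw [Cfsg.Agent.H884.SingMaxPlus.finrank_sup_span hxn, Module.finrank_fintype_fun_eq_card,
    Fintype.card_fin] at h1
  omega

theorem nondeg (hQ : IsNondegenerateQuadraticForm Q) (W : Submodule F (Fin 12 → F))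
    (hW0 : W ≠ ⊥) (hW1 : W ≠ ⊤) (hdim : 2 * Module.finrank F W ≠ 12)
    (hW : IsNondegenerateOn (QuadraticMap.polar Q) W)
    (hex : ¬ (Fintype.card F ≤ 3 ∧ (∃ U : Submodule F (Fin 12 → F), Module.finrank F U = 2 ∧
      IsNondegenerateOn (QuadraticMap.polar Q) U ∧ IsPlusTypeOn Q U ∧
      (U = W ∨ (AreOrthogonalFor (QuadraticMap.polar Q) U W ∧
        Module.finrank F U + Module.finrank F W = 12))))) :
    IsMaximalIn (omegaGL Q) (subspaceStabilizer W ⊓ omegaGL Q) := by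
  refine Cfsg.Agent.H885.NondegGeo.subspaceStabilizer_nondegenerate_maximal hQ
    (by rw [Fintype.card_fin]; omega) W hW0 hW1 hW ?_ ?_
  · rw [Fintype.card_fin]
    exact hex
  · intro Q' _ hnd U hs g _ heq
    have h1 := hs.finrank hnd
    rw [Module.finrank_fin_fun, ← heq, LinearEquiv.finrank_map_eq g U] at h1
    apply hdim
    rw [← heq, LinearEquiv.finrank_map_eq g U]
    omega

omit [Fintype F] in
theorem ne_of_finrank {W : Submodule F (Fin 12 → F)} {d : ℕ} (hd : Module.finrank F W = d)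
    (h0 : d ≠ 0) (h1 : d ≠ 12) : W ≠ ⊥ ∧ W ≠ ⊤ := by
  constructor
  · rintro rfl
    rw [finrank_bot] at hd
    exact h0 hd.symm
  · rintro rfl
    rw [finrank_top, Module.finrank_fin_fun] at hd
    exact h1 hd.symm

theorem part2 (hQ : IsNondegenerateQuadraticForm Q) (W : Submodule F (Fin 12 → F))
    (hW0 : W ≠ ⊥) (hW1 : W ≠ ⊤) (ho : Odd (Module.finrank F W))
    (hdim : 2 * Module.finrank F W ≠ 12)
    (hW : IsNondegenerateOn (QuadraticMap.polar Q) W) :
    IsMaximalIn (omegaGL Q) (subspaceStabilizer W ⊓ omegaGL Q) := by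
  refine nondeg hQ W hW0 hW1 hdim hW ?_
  rintro ⟨-, U, hU, -, -, h | ⟨-, h⟩⟩
  · subst h
    rw [hU] at ho
    exact absurd ho (by decide)
  · rw [Nat.odd_iff] at ho
    omega

theorem part3 (hQ : IsNondegenerateQuadraticForm Q) (W : Submodule F (Fin 12 → F))
    (hd : Module.finrank F W = 2) (hW : IsNondegenerateOn (QuadraticMap.polar Q) W)
    (hn : ¬ IsPlusTypeOn Q W) :
    IsMaximalIn (omegaGL Q) (subspaceStabilizer W ⊓ omegaGL Q) := by
  obtain ⟨h0, h1⟩ := ne_of_finrank hd (by omega) (by omega)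
  refine nondeg hQ W h0 h1 (by omega) hW ?_
  rintro ⟨-, U, hU, -, hp, h | ⟨-, h⟩⟩
  · subst h
    exact hn hp
  · omega

theorem part4 (hq : 4 ≤ Fintype.card F) (hQ : IsNondegenerateQuadraticForm Q)
    (W : Submodule F (Fin 12 → F))
    (hd : Module.finrank F W = 2) (hW : IsNondegenerateOn (QuadraticMap.polar Q) W) :
    IsMaximalIn (omegaGL Q) (subspaceStabilizer W ⊓ omegaGL Q) := by
  obtain ⟨h0, h1⟩ := ne_of_finrank hd (by omega) (by omega)
  refine nondeg hQ W h0 h1 (by omega) hW ?_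
  rintro ⟨h, -⟩
  omega

theorem part5 (hQ : IsNondegenerateQuadraticForm Q) (W : Submodule F (Fin 12 → F))
    (hd : Module.finrank F W = 4) (hW : IsNondegenerateOn (QuadraticMap.polar Q) W) :
    IsMaximalIn (omegaGL Q) (subspaceStabilizer W ⊓ omegaGL Q) := by
  obtain ⟨h0, h1⟩ := ne_of_finrank hd (by omega) (by omega)
  refine nondeg hQ W h0 h1 (by omega) hW ?_
  rintro ⟨-, U, hU, -, hp, h | ⟨-, h⟩⟩
  · subst h
    omega
  · omega

theorem part6 (hchar : ¬ Odd (Fintype.card F)) (hQ : IsNondegenerateQuadraticForm Q)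
    (v : Fin 12 → F) (hv : Q v ≠ 0) :
    IsMaximalIn (omegaGL Q) (subspaceStabilizer (Submodule.span F {v}) ⊓ omegaGL Q) := by
  refine Cfsg.Agent.H883.Bridge.subspaceStabilizer_maximal hQ (by rw [Fintype.card_fin]; omega) _
    fun Q' hQ' hG => ?_
  refine Cfsg.Agent.H885.NonsingVec.maximal hG.nondeg (by rw [Module.finrank_fin_fun]; omega)
    (Cfsg.Agent.H885.NonsingVec.two_eq_zero_of_not_odd hchar) ?_
  rw [hQ']
  exact hv

theorem part8 (hq : 7 ≤ Fintype.card F) (hQ : IsNondegenerateQuadraticForm Q)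
    (D : Fin 6 → Submodule F (Fin 12 → F)) (hD : IsOrthogonalMDecomposition Q 2 D)
    (h : ∀ i, IsPlusTypeOn Q (D i)) :
    IsMaximalIn (omegaGL Q) (decompositionStabilizer D ⊓ omegaGL Q) :=
  Cfsg.Agent.H885.HypMain.decomposition_maximal hq hQ (by rw [Fintype.card_fin]) hD h

theorem part9 (hq : Fintype.card F ≠ 3) (hQ : IsNondegenerateQuadraticForm Q)
    (D : Fin 6 → Submodule F (Fin 12 → F)) (hD : IsOrthogonalMDecomposition Q 2 D)
    (h : ∀ i, ¬ IsPlusTypeOn Q (D i)) :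
    IsMaximalIn (omegaGL Q) (decompositionStabilizer D ⊓ omegaGL Q) :=
  Cfsg.Agent.H886.PlaneMax.decomposition_planes_maximal hq hQ (by rw [Fintype.card_fin]; omega) hD h

theorem part10 (hq : Odd (Fintype.card F) ∧ 5 ≤ Fintype.card F) (hQ : IsNondegenerateQuadraticForm Q)
    (D : Fin 4 → Submodule F (Fin 12 → F)) (hD : IsOrthogonalMDecomposition Q 3 D) :
    IsMaximalIn (omegaGL Q) (decompositionStabilizer D ⊓ omegaGL Q) :=
  Cfsg.Agent.H885.C2Main.decomposition_maximal hQ le_rfl (by rw [Fintype.card_fin]; omega) hD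
    (Or.inl (by omega)) (fun _ => ⟨hq.1, by omega⟩) (by rintro ⟨h, -⟩; omega)

theorem part11 (hq : 3 ≤ Fintype.card F) (hQ : IsNondegenerateQuadraticForm Q)
    (D : Fin 3 → Submodule F (Fin 12 → F)) (hD : IsOrthogonalMDecomposition Q 4 D) :
    IsMaximalIn (omegaGL Q) (decompositionStabilizer D ⊓ omegaGL Q) :=
  Cfsg.Agent.H885.C2Main.decomposition_maximal hQ (by omega) (by rw [Fintype.card_fin]; omega) hD
    (Or.inl (by omega)) (fun h => by omega) (by rintro ⟨-, h, -⟩; omega)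

theorem part12 (hQ : IsNondegenerateQuadraticForm Q)
    (D : Fin 2 → Submodule F (Fin 12 → F)) (hD : IsOrthogonalMDecomposition Q 6 D) :
    IsMaximalIn (omegaGL Q) (decompositionStabilizer D ⊓ omegaGL Q) :=
  Cfsg.Agent.H885.C2Main.decomposition_maximal hQ (by omega) (by rw [Fintype.card_fin]; omega) hD
    (Or.inr (by omega)) (fun h => by omega) (by rintro ⟨h, -⟩; omega)

section

open QuadraticMap Cfsg.Agent.LieClassical.OrthCore Cfsg.Agent.LieClassical.OrthTrans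
  Cfsg.Agent.ClassicalGeometry.OrthAutBasic
  Cfsg.Agent.H887.SiegelMethod Cfsg.Agent.H887.OmegaBridge Cfsg.Agent.H887.TS

theorem part13 (hQ : IsNondegenerateQuadraticForm Q)
    (D : Fin 2 → Submodule F (Fin 12 → F)) (hD : IsMDecomposition 6 D)
    (hts : ∀ i, IsTotallySingularQuad Q (D i)) :
    IsMaximalIn (omegaGL Q) (decompositionStabilizer D ⊓ omegaGL Q) := by
  have hG : Good (qf Q hQ) := (big_qf Q hQ (by rw [Fintype.card_fin]; omega)).good
  have P := tsPair_of_decomp Q hQ hD hts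
  have hf0 := hD.finrank_eq 0
  have hf1 := hD.finrank_eq 1
  refine isMaximalIn_omegaGL Q hQ hG _ (decStab D) (mem_decompositionStabilizer_iff D) ?_ ?_
  · obtain ⟨g, hg, h0, h1⟩ := P.exists_move hG.nondeg (by omega)
    refine ⟨g, hg, fun h => ?_⟩
    rcases mem_decStab_two.1 h with h | h
    · exact h1 h.2
    · -- then `D 0 = D 1`
      have h2 : D 0 = D 1 := h0.symm.trans h.1
      have h3 := P.inf
      rw [← h2, inf_idem] at h3
      rw [h3, finrank_bot] at hf0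
      omega
  · intro H hHE hM hex
    obtain ⟨g, hg, hg'⟩ := hex
    obtain ⟨s, hsE, hs0, hs1⟩ := P.exists_swap hG hf0 hf1 (by omega) (by decide)
    have hsH : s ∈ H := by
      refine hM s hsE (mem_decStab_two.2 (Or.inr ⟨?_, ?_⟩))
      · exact map_eq_of_le (by omega) (by omega) hs0
      · exact map_eq_of_le (by omega) (by omega) hs1
    have hO : Over (qf Q hQ) (D 0) (D 1) H := by
      refine ⟨hHE.trans E_le_O, fun a ha b hb hab => ?_⟩
      exact hM _ (T_mem_E a b)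
        (mem_decStab_two.2 (Or.inl ⟨P.root_map ha hb hab, P.root_map' ha hb hab⟩))
    exact hO.main P hG hf0 hf1 (by omega) hsH hs0 hs1 hg fun h => hg' (mem_decStab_two.2 h)

end

theorem part14 (hodd : Odd (Fintype.card F)) (hQ : IsNondegenerateQuadraticForm Q) {r : ℕ}
    (hr : r.Prime) (hr3 : r ≤ 3) (K : Subalgebra F (Matrix (Fin 12) (Fin 12) F))
    (hK : IsFieldSubalgebra r K) (hsa : IsSelfAdjointFor (QuadraticMap.polar Q) K) :
    IsMaximalIn (omegaGL Q) (subalgebraNormalizer K ⊓ omegaGL Q) := by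
  refine Cfsg.Agent.H884.Ext.extension_field_normalizer_isMaximalIn ?_ hQ hr hK hsa
    (by rw [Fintype.card_fin]; omega) (by rw [Fintype.card_fin]; omega)
  intro h2
  have : CharP F 2 := CharTwo.of_one_ne_zero_of_two_eq_zero one_ne_zero h2
  have h7 := FiniteField.even_card_of_char_two (ringChar.eq F 2)
  rw [Nat.odd_iff] at hodd
  omega

theorem part16 {F : Type*} [Field F] [Fintype F] {Q : (Fin 12 → F) → F}
    (hQ : IsNondegenerateQuadraticForm Q) (K : Subalgebra F (Matrix (Fin 12) (Fin 12) F))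
    (hK : IsFieldSubalgebra 2 K) (hac : IsAdjointClosedFor (QuadraticMap.polar Q) K)
    (hnsa : ¬ IsSelfAdjointFor (QuadraticMap.polar Q) K)
    (hsc : ∀ k ∈ K, ∃ c : F, ∀ v : (Fin 12 → F), Q (Matrix.mulVec k v) = c * Q v) :
    IsMaximalIn (omegaGL Q) (subalgebraNormalizer K ⊓ omegaGL Q) :=
  Cfsg.Agent.H926.HermLow.quadratic_field_normalizer_isMaximalIn (by rw [Fintype.card_fin]; omega)
    hQ hK hac hnsa hsc

theorem part17 (hq : 3 ≤ Fintype.card F) (hQ : IsNondegenerateQuadraticForm Q)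
    (e : Fin 12 ≃ Fin 2 × Fin 6) (P : Matrix.GeneralLinearGroup (Fin 12) F)
    (f₁ : (Fin 2 → F) → (Fin 2 → F) → F) (f₂ : (Fin 6 → F) → (Fin 6 → F) → F)
    (hf₁ : IsSymplecticForm f₁) (hf₂ : IsSymplecticForm f₂)
    (hT : IsTensorFormStructure id (QuadraticMap.polar Q) f₁ f₂ e P)
    (hpure : ∀ (x₁ : Fin 2 → F) (x₂ : Fin 6 → F),
      Q (Matrix.mulVec (P : Matrix (Fin 12) (Fin 12) F)
        ((fun a : Fin 2 × Fin 6 => x₁ a.1 * x₂ a.2) ∘ e)) = 0) :
    IsMaximalIn (omegaGL Q) (tensorProductSubgroup 2 6 e P ⊓ omegaGL Q) :=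
  Cfsg.Agent.H887.TenSp.tensor_maximal Q hQ (by omega) (by omega) (by omega)
    (by rintro ⟨h, -⟩; omega) e P f₁ f₂ hf₁ hf₂ hT hpure

theorem part18 (hQ : IsNondegenerateQuadraticForm Q) (F₀ : Subfield F) (r : ℕ)
    (P : Matrix.GeneralLinearGroup (Fin 12) F) (ζ : F) (hr : r.Prime)
    (hcard : Fintype.card F = Nat.card F₀ ^ r) (hζ : ζ ≠ 0)
    (hP : IsQuadFormRationalStructure (fun v : Fin 12 → F => ζ * Q v) F₀ P) :
    IsMaximalIn (omegaGL Q) (subfieldSubgroup F₀ P ⊓ omegaGL Q) :=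
  Cfsg.Agent.H888.SubfieldMax.subfield_maximal (by rw [Fintype.card_fin]; omega) Q hQ F₀ r hr
    hcard P ζ hζ hP

end Cfsg.Agent.H886.Om12
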