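import Cfsg.Agent.H886.Rigid

/-!
Anisotropic planes of a quadratic space over a finite field.
-/

set_option autoImplicit false

namespace Cfsg.Agent.H886.Plane

open QuadraticMap Cfsg.Agent.LieClassical.OrthCore Cfsg.Agent.LieClassical.OrthTrans
  Cfsg.Agent.LieClassical.OrthFinite Cfsg.Agent.LieClassical.OrthSimple Cfsg.Agent.H883.Bridge
  Cfsg.Agent.H883.Root Cfsg.Agent.H883.Sub Cfsg.Agent.H886.Decomp Cfsg.Agent.H886.Rigid

variable {F V : Type*} [Field F] [AddCommGroup V] [Module F V] {Q : QuadraticForm F V}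
  {W W' : Submodule F V}

/-- `W` is a nondegenerate anisotropic plane. -/
structure AP (Q : QuadraticForm F V) (W : Submodule F V) : Prop where
  rank : Module.finrank F W = 2
  nd : NondegOn Q W
  aniso : ∀ x ∈ W, Q x = 0 → x = 0

/-- The data attached to a nonzero vector `x` of an anisotropic plane: `a ⊥ x`, `b` not orthogonal to
`x`. -/
structure Fr (Q : QuadraticForm F V) (W : Submodule F V) (x a b : V) : Prop where
  ha : a ∈ W
  hb : b ∈ W
  ha0 : a ≠ 0
  hax : polar Q a x = 0
  hbx : polar Q b x ≠ 0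
  span : ∀ y ∈ W, ∃ l m : F, y = l • a + m • b

namespace AP

theorem ne (h : AP Q W) {x : V} (hx : x ∈ W) (hx0 : x ≠ 0) : Q x ≠ 0 := fun h1 => hx0 (h.aniso x hx h1)

theorem exists_fr (h : AP Q W) {x : V} (hx : x ∈ W) (hx0 : x ≠ 0) : ∃ a b, Fr Q W x a b := by
  have hfd : FiniteDimensional F W := Module.finite_of_finrank_pos (by rw [h.rank]; omega)
  obtain ⟨b, hb, hbx⟩ : ∃ b ∈ W, polar Q b x ≠ 0 := by
    by_contra hc
    push Not at hc
    exact hx0 (h.nd x hx fun y hy => by rw [polar_comm]; exact hc y hy)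
  obtain ⟨a, ha0, ha⟩ := exists_perp_ne (Q := res Q W) ![(⟨x, hx⟩ : W)] (by rw [h.rank]; omega)
  have hax : polar Q (a : V) x = 0 := by
    have := ha 0
    rw [polar_comm]
    exact this
  have ha0' : (a : V) ≠ 0 := fun h1 => ha0 (Subtype.ext h1)
  refine ⟨a, b, a.2, hb, ha0', hax, hbx, ?_⟩
  have hli : LinearIndependent F ![(a : W), (⟨b, hb⟩ : W)] := by
    rw [LinearIndependent.pair_iff]
    intro s t hst
    have h1 : s • (a : V) + t • b = 0 := congrArg Subtype.val hst
    have h2 : polar Q (s • (a : V) + t • b) x = 0 := by rw [h1, polar_zero_left]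
    rw [polar_add_left, polar_smul_left, polar_smul_left, hax, smul_zero, zero_add, smul_eq_mul] at h2
    have ht : t = 0 := (mul_eq_zero.1 h2).resolve_right hbx
    subst ht
    rw [zero_smul, add_zero] at h1
    exact ⟨(smul_eq_zero.1 h1).resolve_right ha0', rfl⟩
  have hspan := hli.span_eq_top_of_card_eq_finrank (by rw [h.rank]; rfl)
  intro y hy
  have hy' : (⟨y, hy⟩ : W) ∈ Submodule.span F (Set.range ![(a : W), (⟨b, hb⟩ : W)]) := by
    rw [hspan]; exact Submodule.mem_top
  rw [Matrix.range_cons, Matrix.range_cons, Matrix.range_empty, Set.union_empty,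
    Set.singleton_union, Submodule.mem_span_pair] at hy'
  obtain ⟨l, m, hlm⟩ := hy'
  exact ⟨l, m, (congrArg Subtype.val hlm).symm⟩

end AP

namespace Fr

variable {x a b : V}

/-- Vectors orthogonal to `x` are multiples of `a`. -/
theorem eq_smul (h : Fr Q W x a b) {y : V} (hy : y ∈ W) (hyx : polar Q y x = 0) :
    ∃ l : F, y = l • a := by
  obtain ⟨l, m, rfl⟩ := h.span y hy
  rw [polar_add_left, polar_smul_left, polar_smul_left, h.hax, smul_zero, zero_add, smul_eq_mul] at hyx
  have hm := (mul_eq_zero.1 hyx).resolve_right h.hbx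
  exact ⟨l, by rw [hm, zero_smul, add_zero]⟩

theorem line_mem (h : Fr Q W x a b) (l : F) : b + l • a ∈ W := W.add_mem h.hb (W.smul_mem _ h.ha)

theorem line_polar (h : Fr Q W x a b) (l : F) : polar Q (b + l • a) x = polar Q b x := by
  rw [polar_add_left, polar_smul_left, h.hax, smul_zero, add_zero]

theorem line_ne (h : Fr Q W x a b) (l : F) : b + l • a ≠ 0 := by
  intro h1
  have h2 := h.line_polar l
  rw [h1, polar_zero_left] at h2
  exact h.hbx h2.symm

theorem line_Q (h : Fr Q W x a b) (hW : AP Q W) (l : F) : Q (b + l • a) ≠ 0 :=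
  hW.ne (h.line_mem l) (h.line_ne l)

/-- The points of the sphere through `x`. -/
noncomputable def pt (_ : Fr Q W x a b) (l : Option F) : V :=
  match l with
  | none => x
  | some l => x - ((Q (b + l • a))⁻¹ * polar Q b x) • (b + l • a)

theorem pt_some (h : Fr Q W x a b) (hW : AP Q W) (l : F) :
    h.pt (some l) = refl Q (b + l • a) (h.line_Q hW l) x := by
  rw [refl_apply, h.line_polar]
  rfl

theorem pt_mem (h : Fr Q W x a b) (hx : x ∈ W) (o : Option F) : h.pt o ∈ W := by
  cases o with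
  | none => exact hx
  | some l => exact W.sub_mem hx (W.smul_mem _ (h.line_mem l))

theorem pt_Q (h : Fr Q W x a b) (hW : AP Q W) (o : Option F) : Q (h.pt o) = Q x := by
  cases o with
  | none => rfl
  | some l => rw [h.pt_some hW]; exact mem_O.1 (refl_mem_O _) x

theorem pt_injective (h : Fr Q W x a b) (hW : AP Q W) : Function.Injective h.pt := by
  have hcoef : ∀ l : F, (Q (b + l • a))⁻¹ * polar Q b x ≠ 0 := fun l =>
    mul_ne_zero (inv_ne_zero (h.line_Q hW l)) h.hbx
  have hne : ∀ l : F, h.pt (some l) ≠ x := by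
    intro l h1
    have h2 : ((Q (b + l • a))⁻¹ * polar Q b x) • (b + l • a) = 0 := by
      have h3 : x - ((Q (b + l • a))⁻¹ * polar Q b x) • (b + l • a) = x := h1
      rwa [sub_eq_self] at h3
    rcases smul_eq_zero.1 h2 with h3 | h3
    · exact hcoef l h3
    · exact h.line_ne l h3
  intro o o' hoo
  cases o with
  | none =>
    cases o' with
    | none => rfl
    | some l => exact absurd hoo.symm (hne l)
  | some l =>
    cases o' with
    | none => exact absurd hoo (hne l)
    | some m =>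
      have h1 : x - ((Q (b + l • a))⁻¹ * polar Q b x) • (b + l • a) =
        x - ((Q (b + m • a))⁻¹ * polar Q b x) • (b + m • a) := hoo
      have h2 := sub_right_injective h1
      set c := (Q (b + l • a))⁻¹ * polar Q b x with hc
      set d := (Q (b + m • a))⁻¹ * polar Q b x with hd
      have h3 : polar Q (c • (b + l • a)) x = polar Q (d • (b + m • a)) x := by
        rw [h2]
      rw [polar_smul_left, polar_smul_left, h.line_polar, h.line_polar, smul_eq_mul,
        smul_eq_mul] at h3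
      have h4 : c = d := mul_right_cancel₀ h.hbx h3
      rw [← h4] at h2
      have h5 : b + l • a = b + m • a := smul_right_injective V (hcoef l) h2
      have h6 : (l - m) • a = 0 := by
        rw [sub_smul, sub_eq_zero]
        exact add_left_cancel h5
      have h7 := (smul_eq_zero.1 h6).resolve_right h.ha0
      rw [sub_eq_zero] at h7
      rw [h7]

end Fr

/-- A finite field with `2 ≠ 0` and not of order three has at least five elements. -/
theorem five_le_card [Finite F] (h2 : (2 : F) ≠ 0) (hq : Nat.card F ≠ 3) : 5 ≤ Nat.card F := by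
  have := Fintype.ofFinite F
  have h1 : ringChar F ≠ 2 := by
    intro h
    apply h2
    have := ringChar.spec F 2
    have h3 : ((2 : ℕ) : F) = 0 := this.2 (by rw [h])
    exact_mod_cast h3
  have h3 := FiniteField.odd_card_of_char_ne_two h1
  rw [← Nat.card_eq_fintype_card] at h3
  have h4 : 1 < Nat.card F := by
    rw [Nat.card_eq_fintype_card]
    exact Fintype.one_lt_card
  omega

namespace AP

theorem exists_avoid [Finite F] (hW : AP Q W) {x : V} (hx : x ∈ W) (hx0 : x ≠ 0) (Bad : Finset V)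
    (hBad : Bad.card ≤ Nat.card F) : ∃ y ∈ W, Q y = Q x ∧ y ∉ Bad := by
  classical
  have := Fintype.ofFinite F
  obtain ⟨a, b, h⟩ := hW.exists_fr hx hx0
  have hcard : (Finset.univ.image h.pt).card = Nat.card F + 1 := by
    rw [Finset.card_image_of_injective _ (h.pt_injective hW), Finset.card_univ, Fintype.card_option,
      Nat.card_eq_fintype_card]
  obtain ⟨y, hy, hyB⟩ := Finset.exists_mem_notMem_of_card_lt_card (s := Bad)
    (t := Finset.univ.image h.pt) (by omega)
  obtain ⟨o, -, rfl⟩ := Finset.mem_image.1 hy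
  exact ⟨_, h.pt_mem hx o, h.pt_Q hW o, hyB⟩

/-- Two vectors of the same norm orthogonal to a common nonzero vector. -/
theorem eq_or_neg (hW : AP Q W) {e y y' : V} (he : e ∈ W) (he0 : e ≠ 0) (hy : y ∈ W) (hy' : y' ∈ W)
    (h1 : polar Q e y = 0) (h2 : polar Q e y' = 0) (hQ : Q y' = Q y) : y' = y ∨ y' = -y := by
  obtain ⟨a, b, h⟩ := hW.exists_fr he he0
  obtain ⟨l, rfl⟩ := h.eq_smul hy (by rw [polar_comm]; exact h1)
  obtain ⟨m, rfl⟩ := h.eq_smul hy' (by rw [polar_comm]; exact h2)
  rw [QuadraticMap.map_smul, QuadraticMap.map_smul, smul_eq_mul, smul_eq_mul] at hQ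
  have h3 := mul_right_cancel₀ (hW.ne h.ha h.ha0) hQ
  rcases mul_self_eq_mul_self_iff.1 h3 with h4 | h4
  · left; rw [h4]
  · right; rw [h4, neg_smul]

theorem exists_bad (hW : AP Q W) {e : V} (he : e ∈ W) (he0 : e ≠ 0) (v : F) :
    ∃ Bad : Finset V, Bad.card ≤ 2 ∧ ((2 : F) = 0 → Bad.card ≤ 1) ∧
      ∀ y ∈ W, Q y = v → y ∉ Bad → polar Q e y ≠ 0 := by
  classical
  by_cases hex : ∃ y ∈ W, Q y = v ∧ polar Q e y = 0
  · obtain ⟨y, hy, hQy, hey⟩ := hex
    refine ⟨{y, -y}, Finset.card_le_two, ?_, ?_⟩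
    · intro h2
      have : -y = y := by
        rw [neg_eq_iff_add_eq_zero, ← two_smul F y, h2, zero_smul]
      rw [this]
      simp
    · intro z hz hQz hzB h0
      rcases hW.eq_or_neg he he0 hy hz hey h0 (hQz.trans hQy.symm) with h1 | h1
      · exact hzB (by rw [h1]; simp)
      · exact hzB (by rw [h1]; simp)
  · push Not at hex
    exact ⟨∅, by simp, by simp, fun y hy hQ _ => hex y hy hQ⟩

/-- For `|F| ≠ 3` the sphere through `x` contains a vector not orthogonal to two given vectors. -/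
theorem exists_nonorth [Finite F] (hq : Nat.card F ≠ 3) (hW : AP Q W) {x : V} (hx : x ∈ W)
    (hx0 : x ≠ 0) {e e' : V} (he : e ∈ W) (he0 : e ≠ 0) (he' : e' ∈ W) (he0' : e' ≠ 0) :
    ∃ y ∈ W, Q y = Q x ∧ polar Q e y ≠ 0 ∧ polar Q e' y ≠ 0 := by
  classical
  obtain ⟨B, hB2, hB1, hB⟩ := hW.exists_bad he he0 (Q x)
  obtain ⟨B', hB2', hB1', hB'⟩ := hW.exists_bad he' he0' (Q x)
  have hcard : (B ∪ B').card ≤ Nat.card F := by
    have h1 := Finset.card_union_le B B'
    by_cases h2 : (2 : F) = 0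
    · have h3 := hB1 h2
      have h4 := hB1' h2
      have h5 : 1 < Nat.card F := Finite.one_lt_card
      omega
    · have := five_le_card h2 hq
      omega
  obtain ⟨y, hy, hQy, hyB⟩ := hW.exists_avoid hx hx0 _ hcard
  rw [Finset.mem_union, not_or] at hyB
  exact ⟨y, hy, hQy, hB y hy hQy hyB.1, hB' y hy hQy hyB.2⟩

/-- Same, and the new vector is not a multiple of `x`. -/
theorem exists_pair [Finite F] (hq : Nat.card F ≠ 3) (hW : AP Q W) {x : V} (hx : x ∈ W)
    (hx0 : x ≠ 0) : ∃ y ∈ W, Q y = Q x ∧ polar Q x y ≠ 0 ∧ ∀ c : F, y ≠ c • x := by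
  obtain ⟨a, b, h⟩ := hW.exists_fr hx hx0
  obtain ⟨y, hy, hQy, h1, h2⟩ := hW.exists_nonorth hq hx hx0 hx hx0 h.ha h.ha0
  refine ⟨y, hy, hQy, h1, ?_⟩
  rintro c rfl
  apply h2
  rw [polar_smul_right, h.hax, smul_zero]

theorem conn [Finite F] (hq : Nat.card F ≠ 3) (hW : AP Q W) {x : V} (hx : x ∈ W) (hx0 : x ≠ 0) :
    Conn Q W (Q x) := by
  refine ⟨{y | y ∈ W ∧ Q y = Q x}, ⟨x, hx, rfl⟩, fun b hb => hb, ?_, ?_⟩
  · obtain ⟨y, hy, hQy, -, hyx⟩ := hW.exists_pair hq hx hx0
    have hfd : FiniteDimensional F W := Module.finite_of_finrank_pos (by rw [hW.rank]; omega)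
    have hli : LinearIndependent F ![(⟨x, hx⟩ : W), (⟨y, hy⟩ : W)] := by
      rw [LinearIndependent.pair_iff' (fun h => hx0 (congrArg Subtype.val h))]
      intro c hc
      exact hyx c (congrArg Subtype.val hc).symm
    have hspan := hli.span_eq_top_of_card_eq_finrank (by rw [hW.rank]; rfl)
    intro z hz
    have hz' : (⟨z, hz⟩ : W) ∈ Submodule.span F (Set.range ![(⟨x, hx⟩ : W), (⟨y, hy⟩ : W)]) := by
      rw [hspan]; exact Submodule.mem_top
    rw [Matrix.range_cons, Matrix.range_cons, Matrix.range_empty, Set.union_empty,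
      Set.singleton_union, Submodule.mem_span_pair] at hz'
    obtain ⟨l, m, hlm⟩ := hz'
    have e : z = l • x + m • y := (congrArg Subtype.val hlm).symm
    rw [e]
    exact Submodule.add_mem _ (Submodule.smul_mem _ _ (Submodule.subset_span ⟨hx, rfl⟩))
      (Submodule.smul_mem _ _ (Submodule.subset_span ⟨hy, hQy⟩))
  · rintro b ⟨hb, hQb⟩ c ⟨hc, hQc⟩
    have hQx := hW.ne hx hx0
    have hb0 : b ≠ 0 := by
      rintro rfl
      rw [QuadraticMap.map_zero] at hQb
      exact hQx hQb.symm
    have hc0 : c ≠ 0 := by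
      rintro rfl
      rw [QuadraticMap.map_zero] at hQc
      exact hQx hQc.symm
    obtain ⟨y, hy, hQy, h1, h2⟩ := hW.exists_nonorth hq hx hx0 hb hb0 hc hc0
    exact ⟨y, ⟨hy, hQy⟩, h1, by rw [polar_comm]; exact h2⟩

/-- Anisotropic planes over finite fields represent everything. -/
theorem exists_value [Finite F] (hW : AP Q W) (v : F) (hv : v ≠ 0) : ∃ y ∈ W, y ≠ 0 ∧ Q y = v := by
  have hne : W ≠ ⊥ := by
    intro h
    have := hW.rank
    rw [h, finrank_bot] at this
    omega
  obtain ⟨x, hx, hx0⟩ := Submodule.exists_mem_ne_zero_of_ne_bot hne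
  obtain ⟨a, b, h⟩ := hW.exists_fr hx hx0
  obtain ⟨c, hc0, hc⟩ := exists_ternary_zero (Q a) (Q b) (-v) (polar Q a b) 0 0
  have h1 : Q (c 0 • a + c 1 • b) = v * c 2 ^ 2 := by
    rw [Q_add, QuadraticMap.map_smul, QuadraticMap.map_smul, polar_smul_left, polar_smul_right]
    simp only [smul_eq_mul]
    linear_combination hc
  have hmem : c 0 • a + c 1 • b ∈ W := W.add_mem (W.smul_mem _ h.ha) (W.smul_mem _ h.hb)
  have hc2 : c 2 ≠ 0 := by
    intro h2
    rw [h2] at h1
    have h3 := hW.aniso _ hmem (by rw [h1]; ring)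
    have h4 : polar Q (c 0 • a + c 1 • b) x = 0 := by rw [h3, polar_zero_left]
    rw [polar_add_left, polar_smul_left, polar_smul_left, h.hax, smul_zero, zero_add,
      smul_eq_mul] at h4
    have h5 := (mul_eq_zero.1 h4).resolve_right h.hbx
    rw [h5, zero_smul, add_zero] at h3
    have h6 := (smul_eq_zero.1 h3).resolve_right h.ha0
    apply hc0
    ext i
    fin_cases i
    · exact h6
    · exact h5
    · exact h2
  refine ⟨(c 2)⁻¹ • (c 0 • a + c 1 • b), W.smul_mem _ hmem, ?_, ?_⟩
  · intro h0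
    have h2 := (smul_eq_zero.1 h0).resolve_left (inv_ne_zero hc2)
    rw [h2, QuadraticMap.map_zero] at h1
    exact mul_ne_zero hv (pow_ne_zero 2 hc2) h1.symm
  · rw [QuadraticMap.map_smul, h1, smul_eq_mul]
    field_simp

/-- Vectors of the same norm with the same product with `z`. -/
theorem eq_or_refl (hW : AP Q W) {z : V} {a b : V} (h : Fr Q W z a b) {y y' : V} (hy : y ∈ W)
    (hy' : y' ∈ W) (hQ : Q y' = Q y) (hz : polar Q z y' = polar Q z y) :
    y' = y ∨ y' = refl Q a (hW.ne h.ha h.ha0) y := by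
  obtain ⟨l, hl⟩ := h.eq_smul (W.sub_mem hy' hy) (by
    rw [polar_sub_left, polar_comm Q y', polar_comm Q y, hz, sub_self])
  have e : y' = y + l • a := by rw [← hl]; abel
  have hQa := hW.ne h.ha h.ha0
  rw [e, Q_add, QuadraticMap.map_smul, polar_smul_right, smul_eq_mul, smul_eq_mul] at hQ
  have h1 : l * (l * Q a + polar Q y a) = 0 := by linear_combination hQ
  rcases mul_eq_zero.1 h1 with h2 | h2
  · left
    rw [e, h2, zero_smul, add_zero]
  · right
    rw [e, refl_apply, sub_eq_add_neg, ← neg_smul]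
    congr 2
    rw [polar_comm Q a y]
    field_simp
    linear_combination h2

/-- **An additive group containing a nonzero vector of an anisotropic plane and closed under the
reflections of the plane contains the plane.** -/
theorem mem_of_closed [Finite F] (hW : AP Q W) (A : AddSubgroup V)
    (hA : ∀ c ∈ W, ∀ hc : Q c ≠ 0, ∀ y ∈ A, y ∈ W → refl Q c hc y ∈ A) {w : V} (hwA : w ∈ A)
    (hw : w ∈ W) (hw0 : w ≠ 0) {z : V} (hz : z ∈ W) : z ∈ A := by
  classical
  have := Fintype.ofFinite F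
  by_cases hz0 : z = 0
  · rw [hz0]; exact A.zero_mem
  obtain ⟨a, b, h⟩ := hW.exists_fr hw hw0
  obtain ⟨a', b', h'⟩ := hW.exists_fr hz hz0
  have hptA : ∀ o, h.pt o ∈ A := by
    intro o
    cases o with
    | none => exact hwA
    | some l =>
      rw [h.pt_some hW]
      exact hA _ (h.line_mem l) _ w hwA hw
  have hQz := hW.ne hz hz0
  let μ : Option F → F := fun o => (Q z)⁻¹ * polar Q z (h.pt o)
  let K : AddSubgroup F := A.comap ((LinearMap.toSpanSingleton F V z).toAddMonoidHom)
  have hK : ∀ c, c ∈ K ↔ c • z ∈ A := fun c => Iff.rfl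
  have hμK : ∀ o, μ o ∈ K := by
    intro o
    rw [hK]
    have h1 := A.sub_mem (hptA o) (hA z hz hQz _ (hptA o) (h.pt_mem hw o))
    rw [refl_apply, sub_sub_cancel] at h1
    exact h1
  have hcard := Finset.card_le_mul_card_image (f := μ) (Finset.univ : Finset (Option F)) 2 (by
    intro v hv
    obtain ⟨o, -, rfl⟩ := Finset.mem_image.1 hv
    have h2 : ((Finset.univ.filter (fun o' => μ o' = μ o)).image h.pt).card ≤ 2 := by
      refine le_trans (Finset.card_le_card (t := {h.pt o, refl Q a' (hW.ne h'.ha h'.ha0) (h.pt o)}) ?_)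
        Finset.card_le_two
      intro y hy
      obtain ⟨o', ho', rfl⟩ := Finset.mem_image.1 hy
      have h3 : μ o' = μ o := (Finset.mem_filter.1 ho').2
      have h4 : polar Q z (h.pt o') = polar Q z (h.pt o) := mul_left_cancel₀ (inv_ne_zero hQz) h3
      rcases hW.eq_or_refl h' (h.pt_mem hw o) (h.pt_mem hw o')
        ((h.pt_Q hW o').trans (h.pt_Q hW o).symm) h4 with h5 | h5
      · rw [h5]; simp
      · rw [h5]; simp
    rwa [Finset.card_image_of_injective _ (h.pt_injective hW)] at h2)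
  rw [Finset.card_univ, Fintype.card_option] at hcard
  have h5 : (Finset.univ.image μ).card ≤ Nat.card K := by
    have h5' : Nat.card K = ((K : Set F).toFinset).card := Nat.card_eq_card_toFinset _
    rw [h5']
    refine Finset.card_le_card ?_
    intro c hc
    obtain ⟨o, -, rfl⟩ := Finset.mem_image.1 hc
    rw [Set.mem_toFinset]
    exact hμK o
  have h6 := K.card_mul_index
  rw [Nat.card_eq_fintype_card (α := F)] at h6
  have h7 : K.index = 1 := by
    have h8 : 0 < Fintype.card F := Fintype.card_pos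
    have h9 : K.index ≠ 0 := by
      intro h10
      rw [h10, mul_zero] at h6
      omega
    by_contra h10
    have h11 : 2 ≤ K.index := by omega
    have h12 : Nat.card K * 2 ≤ Nat.card K * K.index := Nat.mul_le_mul_left _ h11
    omega
  have h8 : (1 : F) ∈ K := by
    rw [AddSubgroup.index_eq_one.1 h7]
    trivial
  rwa [hK, one_smul] at h8

end AP

/-- The values of a quadratic polynomial function. -/
theorem card_image_quad [Fintype F] [DecidableEq F] (p0 p1 p2 : F) (h2 : p2 ≠ 0) :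
    Fintype.card F ≤ 2 * (Finset.univ.image fun l : F => p0 + p1 * l + p2 * l ^ 2).card := by
  have := Finset.card_le_mul_card_image (f := fun l : F => p0 + p1 * l + p2 * l ^ 2)
    (Finset.univ : Finset F) 2 (by
    intro v hv
    obtain ⟨l, -, rfl⟩ := Finset.mem_image.1 hv
    refine le_trans (Finset.card_le_card (t := {l, -(p1 / p2) - l}) ?_) Finset.card_le_two
    intro m hm
    have h3 : p0 + p1 * m + p2 * m ^ 2 = p0 + p1 * l + p2 * l ^ 2 := (Finset.mem_filter.1 hm).2
    have h4 : (m - l) * (p1 + p2 * (m + l)) = 0 := by linear_combination h3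
    rcases mul_eq_zero.1 h4 with h5 | h5
    · rw [sub_eq_zero.1 h5]; simp
    · have h6 : m = -(p1 / p2) - l := by
        field_simp
        linear_combination h5
      rw [h6]; simp)
  rwa [Finset.card_univ] at this

/-- Two quadratic polynomial functions without zeros take opposite values. -/
theorem exists_quad_add_eq_zero [Finite F] (p0 p1 p2 r0 r1 r2 : F) (hp2 : p2 ≠ 0) (hr2 : r2 ≠ 0)
    (hp : ∀ l : F, p0 + p1 * l + p2 * l ^ 2 ≠ 0) (hr : ∀ l : F, r0 + r1 * l + r2 * l ^ 2 ≠ 0) :
    ∃ l m : F, (p0 + p1 * l + p2 * l ^ 2) + (r0 + r1 * m + r2 * m ^ 2) = 0 := by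
  classical
  have := Fintype.ofFinite F
  by_contra hc
  push Not at hc
  set A := Finset.univ.image fun l : F => p0 + p1 * l + p2 * l ^ 2 with hA
  set B := Finset.univ.image fun l : F => -r0 + -r1 * l + -r2 * l ^ 2 with hB
  have h1 := card_image_quad p0 p1 p2 hp2
  have h2 := card_image_quad (-r0) (-r1) (-r2) (neg_ne_zero.2 hr2)
  rw [← hA] at h1
  rw [← hB] at h2
  have hdisj : Disjoint A B := by
    rw [Finset.disjoint_left]
    intro x hx hx'
    obtain ⟨l, -, rfl⟩ := Finset.mem_image.1 hx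
    obtain ⟨m, -, hm⟩ := Finset.mem_image.1 hx'
    apply hc l m
    linear_combination -hm
  have h3 : A ∪ B ⊆ Finset.univ.erase 0 := by
    intro x hx
    rw [Finset.mem_erase]
    refine ⟨?_, Finset.mem_univ _⟩
    rcases Finset.mem_union.1 hx with h | h
    · obtain ⟨l, -, rfl⟩ := Finset.mem_image.1 h
      exact hp l
    · obtain ⟨l, -, rfl⟩ := Finset.mem_image.1 h
      intro h0
      apply hr l
      linear_combination -h0
  have h4 := Finset.card_le_card h3
  rw [Finset.card_union_of_disjoint hdisj, Finset.card_erase_of_mem (Finset.mem_univ _),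
    Finset.card_univ] at h4
  have h5 : 0 < Fintype.card F := Fintype.card_pos
  omega

/-- **The pair lemma**: two anisotropic planes, nonzero vectors `x ∈ W`, `x' ∈ W'`: there are `c ∈ W` and
`c' ∈ W'` with `r_c x = x - c`, `r_{c'} x' = x' - c'` and `Q c + Q c' = 0`. -/
theorem exists_pair_sing [Finite F] (hW : AP Q W) (hW' : AP Q W') {x x' : V} (hx : x ∈ W)
    (hx0 : x ≠ 0) (hx' : x' ∈ W') (hx0' : x' ≠ 0) :
    ∃ c ∈ W, ∃ c' ∈ W', Q c ≠ 0 ∧ Q c' ≠ 0 ∧ polar Q c x = Q c ∧ polar Q c' x' = Q c' ∧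
      Q c + Q c' = 0 := by
  obtain ⟨a, b, h⟩ := hW.exists_fr hx hx0
  obtain ⟨a', b', h'⟩ := hW'.exists_fr hx' hx0'
  set β := polar Q b x with hβ
  set β' := polar Q b' x' with hβ'
  have hβ0 : β ≠ 0 := h.hbx
  have hβ0' : β' ≠ 0 := h'.hbx
  have hline : ∀ (a b : V) (l : F), Q (b + l • a) = Q b + polar Q b a * l + Q a * l ^ 2 := by
    intro a b l
    rw [Q_add, QuadraticMap.map_smul, polar_smul_right, smul_eq_mul, smul_eq_mul]
    ring
  obtain ⟨l, m, hlm⟩ := exists_quad_add_eq_zero (β' ^ 2 * Q b) (β' ^ 2 * polar Q b a)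
    (β' ^ 2 * Q a) (β ^ 2 * Q b') (β ^ 2 * polar Q b' a') (β ^ 2 * Q a')
    (mul_ne_zero (pow_ne_zero 2 hβ0') (hW.ne h.ha h.ha0))
    (mul_ne_zero (pow_ne_zero 2 hβ0) (hW'.ne h'.ha h'.ha0))
    (fun l => by
      have e : β' ^ 2 * Q b + β' ^ 2 * polar Q b a * l + β' ^ 2 * Q a * l ^ 2 =
        β' ^ 2 * Q (b + l • a) := by rw [hline]; ring
      rw [e]
      exact mul_ne_zero (pow_ne_zero 2 hβ0') (h.line_Q hW l))
    (fun l => by
      have e : β ^ 2 * Q b' + β ^ 2 * polar Q b' a' * l + β ^ 2 * Q a' * l ^ 2 =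
        β ^ 2 * Q (b' + l • a') := by rw [hline]; ring
      rw [e]
      exact mul_ne_zero (pow_ne_zero 2 hβ0) (h'.line_Q hW' l))
  have e : β' ^ 2 * Q (b + l • a) + β ^ 2 * Q (b' + m • a') = 0 := by
    rw [hline, hline]
    linear_combination hlm
  have hN := h.line_Q hW l
  have hN' := h'.line_Q hW' m
  have hP := h.line_polar l
  have hP' := h'.line_polar m
  have hm := h.line_mem l
  have hm' := h'.line_mem m
  set y := b + l • a with hy
  set y' := b' + m • a' with hy'
  have hs : β * (Q y)⁻¹ ≠ 0 := mul_ne_zero hβ0 (inv_ne_zero hN)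
  have hs' : β' * (Q y')⁻¹ ≠ 0 := mul_ne_zero hβ0' (inv_ne_zero hN')
  refine ⟨(β * (Q y)⁻¹) • y, W.smul_mem _ hm, (β' * (Q y')⁻¹) • y', W'.smul_mem _ hm', ?_, ?_, ?_, ?_,
    ?_⟩
  · rw [QuadraticMap.map_smul, smul_eq_mul]
    exact mul_ne_zero (mul_ne_zero hs hs) hN
  · rw [QuadraticMap.map_smul, smul_eq_mul]
    exact mul_ne_zero (mul_ne_zero hs' hs') hN'
  · rw [QuadraticMap.map_smul, polar_smul_left, hP, ← hβ, smul_eq_mul, smul_eq_mul]
    field_simp
  · rw [QuadraticMap.map_smul, polar_smul_left, hP', ← hβ', smul_eq_mul, smul_eq_mul]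
    field_simp
  · rw [QuadraticMap.map_smul, QuadraticMap.map_smul, smul_eq_mul, smul_eq_mul]
    field_simp
    linear_combination e

end Cfsg.Agent.H886.Plane
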