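import Cfsg.Agent.H871.Basic
import Cfsg.Agent.H929.SLGeo
import Cfsg.Agent.H923.Ext
import Cfsg.Agent.H873.SubfieldMain
import Cfsg.Agent.H929.SimO
import Cfsg.Agent.H929.SimU
import Cfsg.Agent.H886.TW.Wrap
import Cfsg.Agent.S0215
import Cfsg.Agent.S3289
import Cfsg.Agent.S1225

/-!
# Geometric subgroups of `SL_9(q)`, all except the normalisers of `3^{1+4}` (helper886)
-/

set_option autoImplicit false

namespace Cfsg.Agent.H886.SL9

universe v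

theorem zstar : H205.EvenTI.ZStar.{v} :=
  fun G _ _ P x h1 h2 h3 => Cfsg.Agent.S0215.result P x h1 h2 h3

theorem strClosed : H205.EvenTI.StrClosed.{v} := by
  intro G _ _ T S hS hc H hH hC hN
  have h := Cfsg.Agent.S3289.result T S hS hc H hH hC hN
  exact ⟨h.1, h.2.1⟩

theorem seConj : H205.EvenTI.SEConj.{v} := by
  intro G _ _ H hH x hx hxH s t hs hsH ht htH
  obtain ⟨d, hd, h⟩ := (Cfsg.Agent.S1225.result H hH x hx hxH s t hs hsH ht htH).1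
  exact ⟨d, hd.1, h⟩

variable {F : Type v} [Field F] [Fintype F]

/-- Item (7). -/
theorem wreath (e : Fin 9 ≃ (Fin 2 → Fin 3)) (P : Matrix.GeneralLinearGroup (Fin 9) F) :
    Cfsg.Geo.IsMaximalIn (Cfsg.Geo.specialLinear (Fin 9) F)
      (Cfsg.Geo.tensorWreathSubgroup 3 2 e P ⊓ Cfsg.Geo.specialLinear (Fin 9) F) :=
  TW.isMaximalIn_transport (TW.isMaximalIn_twr zstar strClosed seConj) e P

theorem two_ne_zero_of_odd (h : Odd (Fintype.card F)) : (2 : F) ≠ 0 := by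
  intro h2
  obtain ⟨k, hk⟩ := h
  have h3 := FiniteField.cast_card_eq_zero F
  rw [hk] at h3
  push_cast at h3
  rw [h2, zero_mul, zero_add] at h3
  exact one_ne_zero h3

/-- All items, given item (6). -/
theorem of_six (h6 : (∃ p : ℕ, p.Prime ∧ Fintype.card F = p ∧ (p % 3 = 1)) → ∀ R : Subgroup (Matrix.GeneralLinearGroup (Fin 9) F), Cfsg.Geo.IsLinearSymplecticTypeData 3 R → Cfsg.Geo.IsMaximalIn (Cfsg.Geo.specialLinear (Fin 9) F) (Cfsg.Geo.subgroupNormalizer R ⊓ Cfsg.Geo.specialLinear (Fin 9) F)) :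
    (∀ W : Submodule F (Fin 9 → F), W ≠ ⊥ → W ≠ ⊤ → Cfsg.Geo.IsMaximalIn (Cfsg.Geo.specialLinear (Fin 9) F) (Cfsg.Geo.subspaceStabilizer W ⊓ Cfsg.Geo.specialLinear (Fin 9) F)) ∧
    (5 ≤ Fintype.card F → ∀ D : Fin 9 → Submodule F (Fin 9 → F), Cfsg.Geo.IsMDecomposition 1 D → Cfsg.Geo.IsMaximalIn (Cfsg.Geo.specialLinear (Fin 9) F) (Cfsg.Geo.decompositionStabilizer D ⊓ Cfsg.Geo.specialLinear (Fin 9) F)) ∧
    (∀ D : Fin 3 → Submodule F (Fin 9 → F), Cfsg.Geo.IsMDecomposition 3 D → Cfsg.Geo.IsMaximalIn (Cfsg.Geo.specialLinear (Fin 9) F) (Cfsg.Geo.decompositionStabilizer D ⊓ Cfsg.Geo.specialLinear (Fin 9) F)) ∧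
    (∀ K : Subalgebra F (Matrix (Fin 9) (Fin 9) F), Cfsg.Geo.IsFieldSubalgebra 3 K → Cfsg.Geo.IsMaximalIn (Cfsg.Geo.specialLinear (Fin 9) F) (Cfsg.Geo.subalgebraNormalizer K ⊓ Cfsg.Geo.specialLinear (Fin 9) F)) ∧
    (∀ (F₀ : Subfield F) (r : ℕ) (P : Matrix.GeneralLinearGroup (Fin 9) F), r.Prime → Fintype.card F = Nat.card F₀ ^ r → Cfsg.Geo.IsMaximalIn (Cfsg.Geo.specialLinear (Fin 9) F) (Cfsg.Geo.subfieldSubgroup F₀ P ⊓ Cfsg.Geo.specialLinear (Fin 9) F)) ∧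
    ((∃ p : ℕ, p.Prime ∧ Fintype.card F = p ∧ (p % 3 = 1)) → ∀ R : Subgroup (Matrix.GeneralLinearGroup (Fin 9) F), Cfsg.Geo.IsLinearSymplecticTypeData 3 R → Cfsg.Geo.IsMaximalIn (Cfsg.Geo.specialLinear (Fin 9) F) (Cfsg.Geo.subgroupNormalizer R ⊓ Cfsg.Geo.specialLinear (Fin 9) F)) ∧
    (∀ (e : Fin 9 ≃ (Fin 2 → Fin 3)) (P : Matrix.GeneralLinearGroup (Fin 9) F), Cfsg.Geo.IsMaximalIn (Cfsg.Geo.specialLinear (Fin 9) F) (Cfsg.Geo.tensorWreathSubgroup 3 2 e P ⊓ Cfsg.Geo.specialLinear (Fin 9) F)) ∧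
    (Odd (Fintype.card F) → ∀ Q : (Fin 9 → F) → F, Cfsg.Geo.IsNondegenerateQuadraticForm Q → Cfsg.Geo.IsMaximalIn (Cfsg.Geo.specialLinear (Fin 9) F) (Cfsg.Geo.quadSimilarityGroup Q ⊓ Cfsg.Geo.specialLinear (Fin 9) F)) ∧
    (∀ (σ : F ≃+* F) (f : (Fin 9 → F) → (Fin 9 → F) → F), Cfsg.Geo.IsUnitaryForm σ f → Cfsg.Geo.IsMaximalIn (Cfsg.Geo.specialLinear (Fin 9) F) (Cfsg.Geo.similarityGroup f ⊓ Cfsg.Geo.specialLinear (Fin 9) F)) := by
  refine ⟨fun W h0 h1 => H871.subspaceStabilizer_maximal W h0 h1,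
    fun hq D hD => H929.SLGeo.dec_one (by simp) hq D hD,
    fun D hD => H929.SLGeo.dec_three (by omega) D hD,
    fun K hK => ?_,
    fun F₀ r P hr hc => ?_,
    h6, wreath,
    fun hodd Q hQ => ?_,
    fun σ f hf => ?_⟩
  · exact H923.ext_isMaximalIn Nat.prime_three hK (by simp) (by simp)
  · exact H873.Sub.maximal (by simp) F₀ hr hc P
  · exact H929.quadratic_similarity_maximal (two_ne_zero_of_odd hodd) (by simp) hQ
  · exact H929.unitary_similarity_maximal (by simp) hf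

end Cfsg.Agent.H886.SL9
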