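import Cfsg.Agent.H876.SingMax
import Cfsg.Agent.H876.NondegMax
import Cfsg.Agent.H876.OMax
import Cfsg.Agent.H876.FrameMax
import Cfsg.Agent.H878.ExcKillAll
import Cfsg.Agent.H930.ExtVG
import Cfsg.Agent.H930.GUSubG
import Cfsg.Agent.H927.OrthMax

/-!
# Geometric subgroups of `SU_9(q)`: assembly of the items (1), (2), (4)-(7) (helper886)
-/

set_option autoImplicit false

namespace Cfsg.Agent.H886.SU9

universe v

open scoped Matrix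

variable {F : Type v} [Field F] [Fintype F]

theorem herm_self_pow {q n : ℕ} (hF : Fintype.card F = q ^ 2) (w : Fin n → F) :
    (Cfsg.hermForm n F q w w) ^ q = Cfsg.hermForm n F q w w := by
  have hadd : ∀ x y : F, (x + y) ^ q = x ^ q + y ^ q := by
    intro x y
    obtain ⟨p, hp⟩ := CharP.exists F
    obtain ⟨m, hprime, hm⟩ := FiniteField.card F p
    have : Fact p.Prime := ⟨hprime⟩
    rw [hF] at hm
    obtain ⟨b, -, hb⟩ := (Nat.dvd_prime_pow hprime).1 (show q ∣ p ^ (m : ℕ) by rw [← hm]; exact dvd_pow_self _ two_ne_zero)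
    rw [hb]
    have := hp
    exact add_pow_char_pow x y p b
  have hq0 : q ≠ 0 := by
    rintro rfl
    have h1 : 0 < Fintype.card F := Fintype.card_pos
    rw [hF] at h1
    simp at h1
  have hsum : ∀ (s : Finset (Fin n)) (f : Fin n → F), (∑ i ∈ s, f i) ^ q = ∑ i ∈ s, f i ^ q := by
    intro s f
    induction s using Finset.induction_on with
    | empty => simp [hq0]
    | insert a s ha ih => rw [Finset.sum_insert ha, Finset.sum_insert ha, hadd, ih]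
  unfold Cfsg.hermForm
  rw [hsum]
  refine Finset.sum_congr rfl fun i _ => ?_
  rw [mul_pow, ← pow_mul, ← pow_two, ← hF, FiniteField.pow_card]
  exact mul_comm _ _

/-- A similarity of order dividing `3` is an isometry if `q = 2 mod 3`. -/
theorem sim_three {q : ℕ} (hF : Fintype.card F = q ^ 2) (hq : q % 3 = 2) {n : ℕ} (hn : 0 < n)
    {g : Matrix.GeneralLinearGroup (Fin n) F} (hg : g ^ 3 = 1)
    (hs : g ∈ Cfsg.Geo.similarityGroup (Cfsg.hermForm n F q)) : g ∈ Cfsg.GU n F q := by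
  obtain ⟨c, hc⟩ := hs
  have hc3 : (c : F) ^ 3 = 1 := by
    have h1 := hc (((g ^ 2 : Matrix.GeneralLinearGroup (Fin n) F) : Matrix (Fin n) (Fin n) F) *ᵥ Pi.single ⟨0, hn⟩ 1)
      (((g ^ 2 : Matrix.GeneralLinearGroup (Fin n) F) : Matrix (Fin n) (Fin n) F) *ᵥ Pi.single ⟨0, hn⟩ 1)
    rw [Matrix.mulVec_mulVec, ← Units.val_mul, ← pow_succ', hg, Units.val_one, Matrix.one_mulVec, pow_two,
      Units.val_mul, ← Matrix.mulVec_mulVec, hc, hc] at h1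
    have h2 : Cfsg.hermForm n F q (Pi.single ⟨0, hn⟩ 1) (Pi.single ⟨0, hn⟩ 1) = 1 := by
      unfold Cfsg.hermForm
      rw [Finset.sum_eq_single ⟨0, hn⟩]
      · simp
      · intro b _ hb
        rw [Pi.single_eq_of_ne hb, zero_mul]
      · intro h; exact absurd (Finset.mem_univ _) h
    rw [h2] at h1
    linear_combination -h1
  have hcq : (c : F) ^ q = c := by
    have h2 : Cfsg.hermForm n F q (Pi.single ⟨0, hn⟩ 1) (Pi.single ⟨0, hn⟩ 1) = 1 := by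
      unfold Cfsg.hermForm
      rw [Finset.sum_eq_single ⟨0, hn⟩]
      · simp
      · intro b _ hb
        rw [Pi.single_eq_of_ne hb, zero_mul]
      · intro h; exact absurd (Finset.mem_univ _) h
    have h1 := hc (Pi.single ⟨0, hn⟩ 1) (Pi.single ⟨0, hn⟩ 1)
    rw [h2, mul_one] at h1
    rw [← h1]
    exact herm_self_pow hF _
  have hcu : c = 1 := by
    apply Units.ext
    rw [Units.val_one]
    -- `q = 3 k + 2`, `c ^ q = c ^ 2 = c`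
    obtain ⟨k, hk⟩ : ∃ k, q = 3 * k + 2 := ⟨q / 3, by omega⟩
    rw [hk, pow_add, pow_mul, hc3, one_pow, one_mul, pow_two] at hcq
    exact mul_left_cancel₀ c.ne_zero (by rw [hcq, mul_one])
  intro u v
  have h3 := hc u v
  rw [hcu, Units.val_one, one_mul] at h3
  exact h3

/-- Item (8). -/
theorem item_eight {q : ℕ} (hF : Fintype.card F = q ^ 2) (p : ℕ) (R : Subgroup (Matrix.GeneralLinearGroup (Fin 9) F))
    (hp : p.Prime) (hqp : q = p) (hp3 : p % 3 = 2) (hR : Cfsg.Geo.IsSymplecticTypeGroup 3 R)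
    (habs : Cfsg.Geo.ActsAbsolutelyIrreducibly (Cfsg.Geo.matrixSet R))
    (hRs : R ≤ Cfsg.Geo.similarityGroup (Cfsg.hermForm 9 F q)) (hcR : Nat.card R = 243)
    (hcZ : Nat.card (Subgroup.center R) = 3) :
    Cfsg.Geo.IsMaximalIn (Cfsg.GU 9 F q ⊓ Cfsg.Geo.specialLinear (Fin 9) F)
      (Cfsg.Geo.subgroupNormalizer R ⊓ (Cfsg.GU 9 F q ⊓ Cfsg.Geo.specialLinear (Fin 9) F)) := by
  have hRG : R ≤ Cfsg.GU 9 F q := by
    intro g hg
    refine sim_three hF (hqp ▸ hp3) (by omega) ?_ (hRs hg)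
    have h1 := Monoid.pow_exponent_eq_one (⟨g, hg⟩ : R)
    rw [hR.exponent_eq] at h1
    exact congrArg Subtype.val h1
  subst hqp
  have : Fact q.Prime := ⟨hp⟩
  refine H878.c6_SU_odd (k := 2) (p := q) (e := 2) (by decide) hF (by omega) hR habs hRG ⟨hp, ?_, hF, ?_, ?_⟩
    (Or.inl ⟨by decide, hcZ, by rw [hcR]; norm_num⟩)
  · exact charP_of_card_eq_prime_pow hF
  · rw [hcZ]
    obtain ⟨k, hk⟩ : ∃ k, q = 3 * k + 2 := ⟨q / 3, by omega⟩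
    refine ⟨3 * k ^ 2 + 4 * k + 1, ?_⟩
    rw [hk]
    have : (3 * k + 2) ^ 2 = 3 * (3 * k ^ 2 + 4 * k + 1) + 1 := by ring
    omega
  · intro d h0 h2 hd
    have h1 : d = 1 := by omega
    rw [h1, hcZ, pow_one] at hd
    omega

/-- All items, given the items (3), (8), (9). -/
theorem of_three (q : ℕ) (hF : Fintype.card F = q ^ 2)
    (h3 : ∀ D : Fin 9 → Submodule F (Fin 9 → F), Cfsg.Geo.IsNondegenerateMDecomposition (Cfsg.hermForm 9 F q) 1 D → Cfsg.Geo.IsMaximalIn (Cfsg.GU 9 F q ⊓ Cfsg.Geo.specialLinear (Fin 9) F) (Cfsg.Geo.decompositionStabilizer D ⊓ (Cfsg.GU 9 F q ⊓ Cfsg.Geo.specialLinear (Fin 9) F)))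
    (h8 : ∀ (p : ℕ) (R : Subgroup (Matrix.GeneralLinearGroup (Fin 9) F)), p.Prime → q = p → p % 3 = 2 → Cfsg.Geo.IsSymplecticTypeGroup 3 R → Cfsg.Geo.ActsAbsolutelyIrreducibly (Cfsg.Geo.matrixSet R) → R ≤ Cfsg.Geo.similarityGroup (Cfsg.hermForm 9 F q) → Nat.card R = 243 → Nat.card (Subgroup.center R) = 3 → Cfsg.Geo.IsMaximalIn (Cfsg.GU 9 F q ⊓ Cfsg.Geo.specialLinear (Fin 9) F) (Cfsg.Geo.subgroupNormalizer R ⊓ (Cfsg.GU 9 F q ⊓ Cfsg.Geo.specialLinear (Fin 9) F)))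
    (h9 : 3 ≤ q → ∀ (e : Fin 9 ≃ (Fin 2 → Fin 3)) (P : Matrix.GeneralLinearGroup (Fin 9) F) (f₁ : (Fin 3 → F) → (Fin 3 → F) → F), Cfsg.Geo.IsUnitaryFormPow q f₁ → Cfsg.Geo.IsTensorPowerFormStructure (fun x : F => x ^ q) (Cfsg.hermForm 9 F q) f₁ e P → Cfsg.Geo.IsMaximalIn (Cfsg.GU 9 F q ⊓ Cfsg.Geo.specialLinear (Fin 9) F) (Cfsg.Geo.tensorWreathSubgroup 3 2 e P ⊓ (Cfsg.GU 9 F q ⊓ Cfsg.Geo.specialLinear (Fin 9) F))) :
    (∀ W : Submodule F (Fin 9 → F), W ≠ ⊥ → Cfsg.Geo.IsTotallySingularFor (Cfsg.hermForm 9 F q) W → Cfsg.Geo.IsMaximalIn (Cfsg.GU 9 F q ⊓ Cfsg.Geo.specialLinear (Fin 9) F) (Cfsg.Geo.subspaceStabilizer W ⊓ (Cfsg.GU 9 F q ⊓ Cfsg.Geo.specialLinear (Fin 9) F))) ∧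
    (∀ W : Submodule F (Fin 9 → F), W ≠ ⊥ → Cfsg.Geo.IsNondegenerateOn (Cfsg.hermForm 9 F q) W → 2 * Module.finrank F W < 9 → Cfsg.Geo.IsMaximalIn (Cfsg.GU 9 F q ⊓ Cfsg.Geo.specialLinear (Fin 9) F) (Cfsg.Geo.subspaceStabilizer W ⊓ (Cfsg.GU 9 F q ⊓ Cfsg.Geo.specialLinear (Fin 9) F))) ∧
    (∀ D : Fin 9 → Submodule F (Fin 9 → F), Cfsg.Geo.IsNondegenerateMDecomposition (Cfsg.hermForm 9 F q) 1 D → Cfsg.Geo.IsMaximalIn (Cfsg.GU 9 F q ⊓ Cfsg.Geo.specialLinear (Fin 9) F) (Cfsg.Geo.decompositionStabilizer D ⊓ (Cfsg.GU 9 F q ⊓ Cfsg.Geo.specialLinear (Fin 9) F))) ∧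
    (∀ D : Fin 3 → Submodule F (Fin 9 → F), Cfsg.Geo.IsNondegenerateMDecomposition (Cfsg.hermForm 9 F q) 3 D → Cfsg.Geo.IsMaximalIn (Cfsg.GU 9 F q ⊓ Cfsg.Geo.specialLinear (Fin 9) F) (Cfsg.Geo.decompositionStabilizer D ⊓ (Cfsg.GU 9 F q ⊓ Cfsg.Geo.specialLinear (Fin 9) F))) ∧
    (∀ K : Subalgebra F (Matrix (Fin 9) (Fin 9) F), Cfsg.Geo.IsFieldSubalgebra 3 K → Cfsg.Geo.IsAdjointClosedFor (Cfsg.hermForm 9 F q) K → Cfsg.Geo.IsMaximalIn (Cfsg.GU 9 F q ⊓ Cfsg.Geo.specialLinear (Fin 9) F) (Cfsg.Geo.subalgebraNormalizer K ⊓ (Cfsg.GU 9 F q ⊓ Cfsg.Geo.specialLinear (Fin 9) F))) ∧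
    (∀ (F₀ : Subfield F) (r : ℕ) (P : Matrix.GeneralLinearGroup (Fin 9) F), r.Prime → Odd r → Fintype.card F = Nat.card F₀ ^ r → Cfsg.Geo.IsFormRationalStructure (Cfsg.hermForm 9 F q) F₀ 1 P → Cfsg.Geo.IsMaximalIn (Cfsg.GU 9 F q ⊓ Cfsg.Geo.specialLinear (Fin 9) F) (Cfsg.Geo.subfieldSubgroup F₀ P ⊓ (Cfsg.GU 9 F q ⊓ Cfsg.Geo.specialLinear (Fin 9) F))) ∧
    (Odd q → ∀ (F₀ : Subfield F) (P : Matrix.GeneralLinearGroup (Fin 9) F), Fintype.card F = Nat.card F₀ ^ 2 → Cfsg.Geo.IsFormRationalStructure (Cfsg.hermForm 9 F q) F₀ 1 P → Cfsg.Geo.IsMaximalIn (Cfsg.GU 9 F q ⊓ Cfsg.Geo.specialLinear (Fin 9) F) (Cfsg.Geo.subfieldSubgroup F₀ P ⊓ (Cfsg.GU 9 F q ⊓ Cfsg.Geo.specialLinear (Fin 9) F))) ∧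
    (∀ (p : ℕ) (R : Subgroup (Matrix.GeneralLinearGroup (Fin 9) F)), p.Prime → q = p → p % 3 = 2 → Cfsg.Geo.IsSymplecticTypeGroup 3 R → Cfsg.Geo.ActsAbsolutelyIrreducibly (Cfsg.Geo.matrixSet R) → R ≤ Cfsg.Geo.similarityGroup (Cfsg.hermForm 9 F q) → Nat.card R = 243 → Nat.card (Subgroup.center R) = 3 → Cfsg.Geo.IsMaximalIn (Cfsg.GU 9 F q ⊓ Cfsg.Geo.specialLinear (Fin 9) F) (Cfsg.Geo.subgroupNormalizer R ⊓ (Cfsg.GU 9 F q ⊓ Cfsg.Geo.specialLinear (Fin 9) F))) ∧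
    (3 ≤ q → ∀ (e : Fin 9 ≃ (Fin 2 → Fin 3)) (P : Matrix.GeneralLinearGroup (Fin 9) F) (f₁ : (Fin 3 → F) → (Fin 3 → F) → F), Cfsg.Geo.IsUnitaryFormPow q f₁ → Cfsg.Geo.IsTensorPowerFormStructure (fun x : F => x ^ q) (Cfsg.hermForm 9 F q) f₁ e P → Cfsg.Geo.IsMaximalIn (Cfsg.GU 9 F q ⊓ Cfsg.Geo.specialLinear (Fin 9) F) (Cfsg.Geo.tensorWreathSubgroup 3 2 e P ⊓ (Cfsg.GU 9 F q ⊓ Cfsg.Geo.specialLinear (Fin 9) F))) := by
  refine ⟨fun W h0 hW => H876.Sing.sing_maximal 9 q hF (by omega) (by omega) W h0 hW,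
    fun W h0 hW hd => H876.nondeg_maximal 9 q hF (by omega) (by omega) W h0 hW hd,
    h3,
    fun D hD => H876.odec_maximal 9 q hF (by omega) (by omega) 3 D hD (by omega) (Or.inr le_rfl)
      (Or.inr le_rfl),
    fun K hK hadj => H930.ExtU.maximal_of_ne hF Nat.prime_three (by decide) (by omega) (by omega)
      (by omega) hK hadj,
    fun F₀ r P hr hro hc hP => ?_,
    fun hodd F₀ P hc hP => H927.orthogonal_maximal hF (by omega) hodd F₀ hc P hP,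
    h8, h9⟩
  letI : Fintype F₀ := Fintype.ofFinite F₀
  exact H930.GUSub.maximal hF (by omega) hr hro hc hP

end Cfsg.Agent.H886.SU9
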